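import Groth.Agent.Lib.Helper2.Mon.PullTensor

/-!
# The projection formula for closed immersions (helper2)

* `projHom f A B : f_*A ⊗ B ⟶ f_*(A ⊗ f^*B)` for an arbitrary morphism `f`, natural in `A`, `B`;
* `pushStalkHom f x A : (f_*A)_{f x} ⟶ A_x`, bijective when `f` is a topological embedding;
* `projAlg φ T N : T|_R ⊗_R N ≅ (T ⊗_S (S ⊗_R N))|_R`;
* `isIso_projHom` : `projHom` is an isomorphism when `f` is a closed immersion.
-/

set_option autoImplicit false
universe u
open CategoryTheory CategoryTheory.Limits AlgebraicGeometry TopologicalSpace Opposite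
  MonoidalCategory TensorProduct
open Scheme.Modules
open Groth.Agent.Lib.Helper13 Groth.Agent.Lib.Helper13.TensorLocal
  Groth.Agent.Lib.Helper13.ModSiteTensor
open Groth.Agent.Lib.Helper2.Stk Groth.Agent.Lib.Helper2.Tot
open Groth.Agent.Lib.Helper3 Groth.Agent.Lib.Helper3.PbBasic Groth.Agent.Lib.Helper3.InvTensor
  Groth.Agent.Lib.Helper3.InvMonoidal Groth.Agent.Lib.Helper3.PbTensor
  Groth.Agent.Lib.Helper3.QCSec Groth.Agent.Lib.Helper3.InvGen Groth.Agent.Lib.Helper3.InvRestrict

namespace Groth.Agent.Lib.Helper2.Mon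

section Proj
variable {X Y : Scheme.{u}} (f : X ⟶ Y) (A : X.Modules) (B : Y.Modules)

/-- the presheaf-level projection morphism `(f_*A)(V) ⊗ B(V) ⟶ (A ⊗ f^*B)(f⁻¹V)` -/
noncomputable def pPi :
    CohB1.toPMod ((pushforward f).obj A) ⊗ CohB1.toPMod B ⟶
      CohB1.toPMod ((pushforward f).obj (CohB1.tensorMod A
        ((Scheme.Modules.pullback f).obj B))) where
  app V := ModuleCat.MonoidalCategory.tensorLift
    (fun (a : (CohB1.toPMod ((pushforward f).obj A)).obj V) (b : (CohB1.toPMod B).obj V) =>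
      (show (CohB1.toPMod ((pushforward f).obj (CohB1.tensorMod A
          ((Scheme.Modules.pullback f).obj B)))).obj V from
        tm A ((Scheme.Modules.pullback f).obj B) (f ⁻¹ᵁ V.unop)
          (show Γ(A, f ⁻¹ᵁ V.unop) from a) (pull f B V.unop b)))
    (fun a₁ a₂ b => tm_add_left _ _ _ _ _ _)
    (fun r a b => by
      have h := PbTensor.pushforward_smul f A V.unop r a
      exact (congrArg (fun z => tm A _ (f ⁻¹ᵁ V.unop) z (pull f B V.unop b)) h).trans
        (tm_smul_left _ _ _ _ _ _))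
    (fun a b₁ b₂ => by
      have h := pull_add f B V.unop b₁ b₂
      exact (congrArg (fun z => tm A _ (f ⁻¹ᵁ V.unop) (show Γ(A, f ⁻¹ᵁ V.unop) from a) z) h).trans
        (tm_add_right _ _ _ _ _ _))
    (fun r a b => by
      have h := pull_smul f B V.unop r b
      exact (congrArg (fun z => tm A _ (f ⁻¹ᵁ V.unop) (show Γ(A, f ⁻¹ᵁ V.unop) from a) z) h).trans
        (tm_smul_right _ _ _ _ _ _))
  naturality {V₁ V₂} g := by
    apply ModuleCat.MonoidalCategory.tensor_ext
    intro a b
    have hle : V₂.unop ≤ V₁.unop := leOfHom g.unop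
    have h1 := tm_res A ((Scheme.Modules.pullback f).obj B)
      (show f ⁻¹ᵁ V₂.unop ≤ f ⁻¹ᵁ V₁.unop from fun _ hx => hle hx)
      (show Γ(A, f ⁻¹ᵁ V₁.unop) from a) (pull f B V₁.unop b)
    rw [res_pull f B hle] at h1
    exact h1.symm

/-- the projection morphism `f_*A ⊗ B ⟶ f_*(A ⊗ f^*B)` -/
noncomputable def projHom : CohB1.tensorMod ((pushforward f).obj A) B ⟶
    (pushforward f).obj (CohB1.tensorMod A ((Scheme.Modules.pullback f).obj B)) :=
  aMap (pPi f A B) ≫ counitHom _

theorem projHom_tm (V : Y.Opens) (a : Γ(A, f ⁻¹ᵁ V)) (b : Γ(B, V)) :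
    (projHom f A B).app V (tm ((pushforward f).obj A) B V a b) =
      tm A ((Scheme.Modules.pullback f).obj B) (f ⁻¹ᵁ V) a (pull f B V b) := by
  rw [tm_eq_uu]
  change (counitHom _).app V ((aMap (pPi f A B)).app V (uu _ V _)) = _
  rw [aMap_uu]
  exact counit_uu _ V _

variable {A B}

theorem projHom_naturality {A' : X.Modules} {B' : Y.Modules} (α : A ⟶ A') (β : B ⟶ B') :
    tensorMap ((pushforward f).map α) β ≫ projHom f A' B' =
      projHom f A B ≫ (pushforward f).map
        (tensorMap α ((Scheme.Modules.pullback f).map β)) := by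
  apply tensorMod_hom_ext
  intro V a b
  have h1 := tensorMap_tm ((pushforward f).map α) β V a b
  have h2 := projHom_tm f A' B' V (α.app (f ⁻¹ᵁ V) a) (β.app V b)
  have h3 := projHom_tm f A B V a b
  have h4 := tensorMap_tm α ((Scheme.Modules.pullback f).map β) (f ⁻¹ᵁ V) a (pull f B V b)
  have h5 := pull_app f β V b
  refine Eq.trans (b := tm A' ((Scheme.Modules.pullback f).obj B') (f ⁻¹ᵁ V)
    (α.app (f ⁻¹ᵁ V) a) (pull f B' V (β.app V b))) ?_ ?_
  · exact (congrArg (fun z => (projHom f A' B').app V z) h1).trans h2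
  · symm
    refine (congrArg (fun z => (tensorMap α ((Scheme.Modules.pullback f).map β)).app
      (f ⁻¹ᵁ V) z) h3).trans ?_
    rw [h4, h5]

end Proj


section PushStalk
variable {X Y : Scheme.{u}} (f : X ⟶ Y) (x : X)

/-- the additive map `(f_*A)_{f x} → A_x` -/
noncomputable def pushStalkAdd (A : X.Modules) :
    ↑(((pushforward f).obj A).presheaf.stalk (f.base x)) →+ ↑(A.presheaf.stalk x) :=
  stalkDesc (f.base x) ((pushforward f).obj A) (A.presheaf.stalk x)
    (fun U hx => (A.presheaf.germ (f ⁻¹ᵁ U) x hx).hom)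
    (fun U V i hx s => TopCat.Presheaf.germ_res_apply A.presheaf
      ((Opens.map f.base).map i) x hx s)

lemma pushStalkAdd_germ (A : X.Modules) (U : Y.Opens) (hx : f.base x ∈ U) (s : Γ(A, f ⁻¹ᵁ U)) :
    pushStalkAdd f x A (((pushforward f).obj A).presheaf.germ U (f.base x) hx s) =
      A.presheaf.germ (f ⁻¹ᵁ U) x hx s :=
  stalkDesc_germ (f.base x) ((pushforward f).obj A) _ _ _ U hx s

/-- the linear map `(f_*A)_{f x} → A_x` -/
noncomputable def pushStalkHom (A : X.Modules) :
    (Φ (f.base x)).obj ((pushforward f).obj A) ⟶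
      (ModuleCat.restrictScalars (φst f x)).obj ((Φ x).obj A) :=
  ModuleCat.ofHom (Y := (ModuleCat.restrictScalars (φst f x)).obj ((Φ x).obj A))
    { toFun := fun a => (show ↑((ModuleCat.restrictScalars (φst f x)).obj ((Φ x).obj A)) from
        pushStalkAdd f x A a)
      map_add' := map_add (pushStalkAdd f x A)
      map_smul' := by
        intro r a
        obtain ⟨U, hx, ρ, s, rfl, rfl⟩ := exists_rep_smul (f.base x) ((pushforward f).obj A) r a
        rw [← germ_smul']
        simp only [RingHom.id_apply]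
        show pushStalkAdd f x A _ = (f.stalkMap x (Y.presheaf.germ U (f.base x) hx ρ)) •
          pushStalkAdd f x A _
        rw [pushStalkAdd_germ, pushStalkAdd_germ]
        show A.presheaf.germ (f ⁻¹ᵁ U) x hx ((f.app U ρ) • (show Γ(A, f ⁻¹ᵁ U) from s)) =
          (f.stalkMap x (Y.presheaf.germ U (f.base x) hx ρ)) •
            A.presheaf.germ (f ⁻¹ᵁ U) x hx s
        rw [germ_smul', Scheme.Hom.germ_stalkMap_apply] }

lemma pushStalkHom_germ (A : X.Modules) (U : Y.Opens) (hx : f.base x ∈ U) (s : Γ(A, f ⁻¹ᵁ U)) :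
    (pushStalkHom f x A).hom (((pushforward f).obj A).presheaf.germ U (f.base x) hx s) =
      A.presheaf.germ (f ⁻¹ᵁ U) x hx s :=
  pushStalkAdd_germ f x A U hx s

lemma pushStalkHom_naturality {A A' : X.Modules} (α : A ⟶ A') :
    (Φ (f.base x)).map ((pushforward f).map α) ≫ pushStalkHom f x A' =
      pushStalkHom f x A ≫ (ModuleCat.restrictScalars (φst f x)).map ((Φ x).map α) := by
  ext a
  obtain ⟨U, hx, s, rfl⟩ := TopCat.Presheaf.exists_germ_eq ((pushforward f).obj A).presheaf a
  show (pushStalkHom f x A').hom ((Φ (f.base x)).map ((pushforward f).map α)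
      (((pushforward f).obj A).presheaf.germ U (f.base x) hx s)) =
    (Φ x).map α ((pushStalkHom f x A).hom
      (((pushforward f).obj A).presheaf.germ U (f.base x) hx s))
  rw [DerSch.stalkFunctor_map_germ, pushStalkHom_germ]
  erw [pushStalkHom_germ]
  rw [DerSch.stalkFunctor_map_germ]
  rfl

theorem pushStalkHom_bijective (hf : Topology.IsInducing f.base) (A : X.Modules) :
    Function.Bijective (pushStalkHom f x A).hom := by
  constructor
  · rw [injective_iff_map_eq_zero]
    intro a ha
    obtain ⟨V, hx, s, rfl⟩ := TopCat.Presheaf.exists_germ_eq ((pushforward f).obj A).presheaf a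
    rw [pushStalkHom_germ] at ha
    have ha' : A.presheaf.germ (f ⁻¹ᵁ V) x hx s = A.presheaf.germ (f ⁻¹ᵁ V) x hx 0 := by
      rw [ha]
      exact (map_zero (A.presheaf.germ (f ⁻¹ᵁ V) x hx).hom).symm
    obtain ⟨W, hxW, i₁, i₂, he⟩ := TopCat.Presheaf.germ_eq A.presheaf x hx hx s 0 ha'
    rw [map_zero] at he
    obtain ⟨V', hV'o, hV'⟩ := hf.isOpen_iff.mp W.isOpen
    let V₁ : Y.Opens := ⟨V', hV'o⟩
    have hxV₁ : f.base x ∈ V₁ := by
      have : x ∈ (f.base ⁻¹' V') := by rw [hV']; exact hxW
      exact this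
    have hle : f ⁻¹ᵁ (V ⊓ V₁) ≤ W := by
      intro z hz
      have : z ∈ (f.base ⁻¹' V') := hz.2
      rw [hV'] at this
      exact this
    have h1 := TopCat.Presheaf.germ_res_apply ((pushforward f).obj A).presheaf
      (homOfLE (inf_le_left : V ⊓ V₁ ≤ V)) (f.base x) ⟨hx, hxV₁⟩ s
    rw [← h1]
    have h2 : ((pushforward f).obj A).presheaf.map (homOfLE (inf_le_left : V ⊓ V₁ ≤ V)).op s =
        A.presheaf.map (homOfLE hle).op (A.presheaf.map i₁.op s) := by
      rw [← ConcreteCategory.comp_apply, ← Functor.map_comp]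
      rfl
    rw [h2, he, map_zero]
    exact map_zero (((pushforward f).obj A).presheaf.germ (V ⊓ V₁) (f.base x) ⟨hx, hxV₁⟩).hom
  · intro t
    obtain ⟨W, hxW, s, rfl⟩ := TopCat.Presheaf.exists_germ_eq A.presheaf t
    obtain ⟨V', hV'o, hV'⟩ := hf.isOpen_iff.mp W.isOpen
    let V₁ : Y.Opens := ⟨V', hV'o⟩
    have hxV₁ : f.base x ∈ V₁ := by
      have : x ∈ (f.base ⁻¹' V') := by rw [hV']; exact hxW
      exact this
    have hle : f ⁻¹ᵁ V₁ ≤ W := by
      intro z hz
      have : z ∈ (f.base ⁻¹' V') := hz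
      rw [hV'] at this
      exact this
    refine ⟨((pushforward f).obj A).presheaf.germ V₁ (f.base x) hxV₁
      (A.presheaf.map (homOfLE hle).op s), ?_⟩
    rw [pushStalkHom_germ]
    exact TopCat.Presheaf.germ_res_apply A.presheaf (homOfLE hle) x hxV₁ s

theorem subsingleton_stalk_pushforward (y : Y) (hr : IsClosed (Set.range f.base))
    (hy : y ∉ Set.range f.base) (A : X.Modules) :
    Subsingleton ↑(((pushforward f).obj A).presheaf.stalk y) := by
  let V₀ : Y.Opens := ⟨(Set.range f.base)ᶜ, hr.isOpen_compl⟩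
  have hbot : ∀ V : Y.Opens, f ⁻¹ᵁ (V ⊓ V₀) = ⊥ := by
    intro V
    ext z
    simp only [Opens.coe_bot, Set.mem_empty_iff_false, iff_false]
    intro hz
    exact hz.2 ⟨z, rfl⟩
  have key : ∀ a : ↑(((pushforward f).obj A).presheaf.stalk y), a = 0 := by
    intro a
    obtain ⟨V, hyV, s, rfl⟩ := TopCat.Presheaf.exists_germ_eq ((pushforward f).obj A).presheaf a
    have h1 := TopCat.Presheaf.germ_res_apply ((pushforward f).obj A).presheaf
      (homOfLE (inf_le_left : V ⊓ V₀ ≤ V)) y ⟨hyV, hy⟩ s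
    rw [← h1]
    have hsub : Subsingleton Γ(A, f ⁻¹ᵁ (V ⊓ V₀)) := by
      rw [hbot V]
      exact Module.subsingleton Γ(X, (⊥ : X.Opens)) Γ(A, (⊥ : X.Opens))
    have h2 : ((pushforward f).obj A).presheaf.map (homOfLE (inf_le_left : V ⊓ V₀ ≤ V)).op s =
        (0 : Γ(A, f ⁻¹ᵁ (V ⊓ V₀))) := @Subsingleton.elim _ hsub _ _
    rw [h2]
    exact map_zero (((pushforward f).obj A).presheaf.germ (V ⊓ V₀) y ⟨hyV, hy⟩).hom
  exact ⟨fun a b => (key a).trans (key b).symm⟩

end PushStalk


section Alg
variable {R S : Type u} [CommRing R] [CommRing S] (φ : R →+* S)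

open Functor.LaxMonoidal in
/-- `T|_R ⊗_R N ⟶ (T ⊗_S (S ⊗_R N))|_R`, `t ⊗ n ↦ t ⊗ (1 ⊗ n)` -/
noncomputable def projAlg (T : ModuleCat.{u} S) (N : ModuleCat.{u} R) :
    (ModuleCat.restrictScalars φ).obj T ⊗ N ⟶
      (ModuleCat.restrictScalars φ).obj (T ⊗ (ModuleCat.extendScalars φ).obj N) :=
  ((ModuleCat.restrictScalars φ).obj T ◁ (ModuleCat.extendRestrictScalarsAdj φ).unit.app N) ≫
    μ (ModuleCat.restrictScalars φ) T ((ModuleCat.extendScalars φ).obj N)

open ChangeOfRings Functor.LaxMonoidal in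
lemma projAlg_tmul (T : ModuleCat.{u} S) (N : ModuleCat.{u} R) (t : T) (n : N) :
    (projAlg φ T N).hom ((show ↑((ModuleCat.restrictScalars φ).obj T) from t) ⊗ₜ[R] n) =
      (show ↑((ModuleCat.restrictScalars φ).obj (T ⊗ (ModuleCat.extendScalars φ).obj N)) from
        t ⊗ₜ[S] ((1 : S) ⊗ₜ[R, φ] n)) := by
  have h2 := ModuleCat.restrictScalars_μ_tmul φ T ((ModuleCat.extendScalars φ).obj N) t
    ((1 : S) ⊗ₜ[R, φ] n)
  exact h2

set_option backward.isDefEq.respectTransparency.types false in
theorem projAlg_bijective (T : ModuleCat.{u} S) (N : ModuleCat.{u} R) :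
    Function.Bijective (projAlg φ T N).hom := by
  letI : Algebra R S := φ.toAlgebra
  letI : Module R T := Module.compHom T φ
  haveI : IsScalarTower R S T := ⟨fun r s t => by
    show (φ r * s) • t = φ r • (s • t)
    rw [mul_smul]⟩
  let e := (AlgebraTensorModule.cancelBaseChange R S S T N).symm
  have key : ∀ z : T ⊗[R] N, (projAlg φ T N).hom z = e z := by
    intro z
    induction z using TensorProduct.induction_on with
    | zero => exact (map_zero (projAlg φ T N).hom).trans (map_zero e).symm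
    | tmul t n => exact projAlg_tmul φ T N t n
    | add a b ha hb =>
      exact ((map_add (projAlg φ T N).hom a b).trans (congrArg₂ (· + ·) ha hb)).trans
        (map_add e a b).symm
  have : ⇑(projAlg φ T N).hom = ⇑e := funext key
  rw [this]
  exact e.bijective

end Alg


section Formula
variable {X Y : Scheme.{u}} (f : X ⟶ Y) (x : X) (A : X.Modules) (B : Y.Modules)

open ChangeOfRings in
/-- The key formula for the stalk of the projection morphism at a point of the image. -/
theorem stalk_projHom_formula :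
    (tensorIso ((pushforward f).obj A) B (f.base x)).hom ≫
        (Φ (f.base x)).map (projHom f A B) ≫
          pushStalkHom f x (CohB1.tensorMod A ((Scheme.Modules.pullback f).obj B)) =
      (pushStalkHom f x A ▷ (Φ (f.base x)).obj B) ≫
        projAlg (φst f x) ((Φ x).obj A) ((Φ (f.base x)).obj B) ≫
          (ModuleCat.restrictScalars (φst f x)).map
            (((Φ x).obj A ◁ (pullStalkIso f x).inv.app B) ≫
              (tensorIso A ((Scheme.Modules.pullback f).obj B) x).hom) := by
  apply ModuleCat.MonoidalCategory.tensor_ext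
  intro a b
  obtain ⟨V, hx, s, t, rfl, rfl⟩ := exists_germ₂ ((pushforward f).obj A) B (f.base x) a b
  have L1 := tensorIso_hom_germ ((pushforward f).obj A) B (f.base x) V hx s t
  have L2 := DerSch.stalkFunctor_map_germ (f.base x) (projHom f A B) V hx
    (tm ((pushforward f).obj A) B V s t)
  have L3 := projHom_tm f A B V s t
  have L4 := pushStalkHom_germ f x (CohB1.tensorMod A ((Scheme.Modules.pullback f).obj B)) V hx
    (tm A ((Scheme.Modules.pullback f).obj B) (f ⁻¹ᵁ V) s (pull f B V t))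
  have R1 := pushStalkHom_germ f x A V hx s
  have R2 := projAlg_tmul (φst f x) ((Φ x).obj A) ((Φ (f.base x)).obj B)
    (A.presheaf.germ (f ⁻¹ᵁ V) x hx s) (B.presheaf.germ V (f.base x) hx t)
  have R3 := pullStalkIso_inv_tmul f x B V hx t
  have R4 := tensorIso_hom_germ A ((Scheme.Modules.pullback f).obj B) x (f ⁻¹ᵁ V) hx s
    (pull f B V t)
  refine Eq.trans (b := (CohB1.tensorMod A ((Scheme.Modules.pullback f).obj B)).presheaf.germ
    (f ⁻¹ᵁ V) x hx (tm A ((Scheme.Modules.pullback f).obj B) (f ⁻¹ᵁ V) s (pull f B V t))) ?_ ?_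
  · refine Eq.trans (congrArg (fun z => (pushStalkHom f x _).hom
      ((Φ (f.base x)).map (projHom f A B) z)) L1) ?_
    refine Eq.trans (congrArg (fun z => (pushStalkHom f x _).hom z) L2) ?_
    refine Eq.trans (congrArg (fun z => (pushStalkHom f x _).hom
      ((CohB1.tensorMod A ((Scheme.Modules.pullback f).obj B) |> fun M =>
        ((pushforward f).obj M).presheaf.germ V (f.base x) hx) z)) L3) ?_
    exact L4
  · symm
    have h0 : (pushStalkHom f x A ▷ (Φ (f.base x)).obj B).hom
        ((((pushforward f).obj A).presheaf.germ V (f.base x) hx s) ⊗ₜ[Y.presheaf.stalk (f.base x)]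
          (B.presheaf.germ V (f.base x) hx t)) =
        ((show ↑((ModuleCat.restrictScalars (φst f x)).obj ((Φ x).obj A)) from
          A.presheaf.germ (f ⁻¹ᵁ V) x hx s) ⊗ₜ[Y.presheaf.stalk (f.base x)]
          (B.presheaf.germ V (f.base x) hx t)) :=
      congrArg (fun w : ↑((ModuleCat.restrictScalars (φst f x)).obj ((Φ x).obj A)) =>
        w ⊗ₜ[Y.presheaf.stalk (f.base x)] (B.presheaf.germ V (f.base x) hx t)) R1
    refine Eq.trans (congrArg (fun z => ((ModuleCat.restrictScalars (φst f x)).map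
      (((Φ x).obj A ◁ (pullStalkIso f x).inv.app B) ≫
        (tensorIso A ((Scheme.Modules.pullback f).obj B) x).hom)).hom
      ((projAlg (φst f x) ((Φ x).obj A) ((Φ (f.base x)).obj B)).hom z)) h0) ?_
    refine Eq.trans (congrArg (fun z => ((ModuleCat.restrictScalars (φst f x)).map
      (((Φ x).obj A ◁ (pullStalkIso f x).inv.app B) ≫
        (tensorIso A ((Scheme.Modules.pullback f).obj B) x).hom)).hom z) R2) ?_
    refine Eq.trans ?_ R4
    refine congrArg (fun z => (tensorIso A ((Scheme.Modules.pullback f).obj B) x).hom z) ?_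
    exact congrArg (fun w => (A.presheaf.germ (f ⁻¹ᵁ V) x hx s) ⊗ₜ[X.presheaf.stalk x] w) R3

theorem isIso_stalk_projHom_of_inducing (hf : Topology.IsInducing f.base) :
    IsIso ((Φ (f.base x)).map (projHom f A B)) := by
  have h := stalk_projHom_formula f x A B
  haveI i1 : IsIso (pushStalkHom f x A) :=
    (ConcreteCategory.isIso_iff_bijective _).2 (pushStalkHom_bijective f x hf A)
  haveI i2 : IsIso (pushStalkHom f x (CohB1.tensorMod A ((Scheme.Modules.pullback f).obj B))) :=
    (ConcreteCategory.isIso_iff_bijective _).2 (pushStalkHom_bijective f x hf _)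
  haveI i3 : IsIso (projAlg (φst f x) ((Φ x).obj A) ((Φ (f.base x)).obj B)) :=
    (ConcreteCategory.isIso_iff_bijective _).2 (projAlg_bijective (φst f x) _ _)
  haveI i4 : IsIso ((pullStalkIso f x).inv.app B) :=
    ((pullStalkIso f x).app B).symm.isIso_hom
  haveI i5 : IsIso ((Φ x).obj A ◁ (pullStalkIso f x).inv.app B) := inferInstance
  have h1 : IsIso ((tensorIso ((pushforward f).obj A) B (f.base x)).hom ≫
        (Φ (f.base x)).map (projHom f A B) ≫
          pushStalkHom f x (CohB1.tensorMod A ((Scheme.Modules.pullback f).obj B))) := by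
    rw [h]
    haveI i6 : IsIso (pushStalkHom f x A ▷ (Φ (f.base x)).obj B) := inferInstance
    haveI i7 : IsIso (((Φ x).obj A ◁ (pullStalkIso f x).inv.app B) ≫
        (tensorIso A ((Scheme.Modules.pullback f).obj B) x).hom) := inferInstance
    haveI i8 : IsIso ((ModuleCat.restrictScalars (φst f x)).map
        (((Φ x).obj A ◁ (pullStalkIso f x).inv.app B) ≫
          (tensorIso A ((Scheme.Modules.pullback f).obj B) x).hom)) := inferInstance
    exact @IsIso.comp_isIso _ _ _ _ _ _ _ i6 (@IsIso.comp_isIso _ _ _ _ _ _ _ i3 i8)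
  have h2 := @IsIso.of_isIso_comp_left _ _ _ _ _ _ _ _ h1
  exact @IsIso.of_isIso_comp_right _ _ _ _ _ _ _ i2 h2

theorem isIso_stalk_projHom_of_not_mem (hr : IsClosed (Set.range f.base)) (y : Y)
    (hy : y ∉ Set.range f.base) : IsIso ((Φ y).map (projHom f A B)) := by
  haveI s1 := subsingleton_stalk_pushforward f y hr hy A
  haveI s2 := subsingleton_stalk_pushforward f y hr hy
    (CohB1.tensorMod A ((Scheme.Modules.pullback f).obj B))
  have z2 : IsZero ((Φ y).obj ((pushforward f).obj
      (CohB1.tensorMod A ((Scheme.Modules.pullback f).obj B)))) :=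
    @ModuleCat.isZero_of_subsingleton _ _ _ s2
  have z0 : IsZero ((Φ y).obj ((pushforward f).obj A) ⊗ (Φ y).obj B) := by
    haveI : Subsingleton ↑((Φ y).obj ((pushforward f).obj A)) := s1
    haveI : Subsingleton (↑((Φ y).obj ((pushforward f).obj A)) ⊗[Y.presheaf.stalk y]
        ↑((Φ y).obj B)) := inferInstance
    exact @ModuleCat.isZero_of_subsingleton _ _ _ this
  have z1 : IsZero ((Φ y).obj (CohB1.tensorMod ((pushforward f).obj A) B)) :=
    IsZero.of_iso z0 (tensorIso ((pushforward f).obj A) B y).symm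
  exact ⟨⟨0, z1.eq_of_src _ _, z2.eq_of_src _ _⟩⟩

end Formula

section Main
variable {X Y : Scheme.{u}} (f : X ⟶ Y) [IsClosedImmersion f] (A : X.Modules) (B : Y.Modules)

instance isIso_projHom : IsIso (projHom f A B) := by
  have hcl : Topology.IsClosedEmbedding f.base := f.isClosedEmbedding
  haveI : ∀ y : Y, IsIso ((Φ y).map (projHom f A B)) := by
    intro y
    by_cases hy : y ∈ Set.range f.base
    · obtain ⟨x, rfl⟩ := hy
      exact isIso_stalk_projHom_of_inducing f x A B hcl.isInducing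
    · exact isIso_stalk_projHom_of_not_mem f A B hcl.isClosed_range y hy
  exact jointlyReflectIsomorphisms_Φ.isIso _

end Main

end Groth.Agent.Lib.Helper2.Mon
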