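import Groth.Agent.Lib.Helper2.Mon.ProjFormula
import Groth.Agent.Lib.Helper2.Stk.Rpush
import Groth.Agent.Lib.Helper13.ClImmPC

/-!
# The projection formula for closed immersions, for complexes and in the derived category (helper2)

* `preservesCoproduct_pushforward` : `f_*` preserves (small) coproducts for a closed immersion `f`;
* `projIso f A B : f_*A ⊗ B ≅ f_*(A ⊗ f^*B)`, `projCxIso f K L` for complexes;
* `RpushIso`, `nonempty_Rpush_iso_of_exact` : `Rf_*` termwise on K-injectives / when `f_*` is exact.
-/

set_option autoImplicit false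
universe u
open CategoryTheory CategoryTheory.Limits AlgebraicGeometry TopologicalSpace Opposite
  MonoidalCategory TensorProduct HomologicalComplex
open Scheme.Modules
open Groth.Agent.Lib.Helper2.Stk Groth.Agent.Lib.Helper2.Tot
open Groth.Agent.Lib.Helper3.InvMonoidal

namespace Groth.Agent.Lib.Helper2.Mon

section Coprod
variable {X Y : Scheme.{u}} (f : X ⟶ Y)

/-- `(f_* -)_{f x} ≅ (-)_x` for a topological embedding -/
noncomputable def pushStalkIso (x : X) (hf : Topology.IsInducing f.base) :
    pushforward f ⋙ Φ (f.base x) ≅ Φ x ⋙ ModuleCat.restrictScalars (φst f x) :=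
  NatIso.ofComponents
    (fun A =>
      haveI : IsIso (pushStalkHom f x A) :=
        (ConcreteCategory.isIso_iff_bijective _).2 (pushStalkHom_bijective f x hf A)
      asIso (pushStalkHom f x A))
    (fun α => pushStalkHom_naturality f x α)

lemma isZero_sigma {C : Type*} [Category C] [HasZeroMorphisms C] {J : Type*} (g : J → C)
    [HasCoproduct g] (h : ∀ j, IsZero (g j)) : IsZero (∐ g) := by
  rw [IsZero.iff_id_eq_zero]
  apply Sigma.hom_ext
  intro j
  rw [Category.comp_id, comp_zero]
  exact (h j).eq_of_src _ _

variable [IsClosedImmersion f]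

instance preservesCoproduct_pushforward {J : Type} (g : J → X.Modules) :
    PreservesColimit (Discrete.functor g) (pushforward f) := by
  have hcl : Topology.IsClosedEmbedding f.base := f.isClosedEmbedding
  haveI : IsIso (sigmaComparison (pushforward f) g) := by
    haveI : ∀ y : Y, IsIso ((Φ y).map (sigmaComparison (pushforward f) g)) := by
      intro y
      have hcomp : sigmaComparison (pushforward f ⋙ Φ y) g =
          sigmaComparison (Φ y) (fun j => (pushforward f).obj (g j)) ≫
            (Φ y).map (sigmaComparison (pushforward f) g) := by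
        apply Sigma.hom_ext
        intro j
        rw [ι_comp_sigmaComparison]
        have h1 := ι_comp_sigmaComparison (Φ y) (fun j => (pushforward f).obj (g j)) j
        have h2 := ι_comp_sigmaComparison (pushforward f) g j
        refine Eq.trans ?_ (Category.assoc _ _ _)
        refine Eq.trans ?_ (congrArg (fun t => t ≫ (Φ y).map (sigmaComparison (pushforward f) g))
          h1.symm)
        rw [← Functor.map_comp, h2]
        rfl
      haveI : IsIso (sigmaComparison (Φ y) (fun j => (pushforward f).obj (g j))) := inferInstance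
      suffices h : IsIso (sigmaComparison (pushforward f ⋙ Φ y) g) by
        rw [hcomp] at h
        exact @IsIso.of_isIso_comp_left _ _ _ _ _ _ _ _ h
      by_cases hy : y ∈ Set.range f.base
      · obtain ⟨x, rfl⟩ := hy
        haveI : PreservesColimit (Discrete.functor g) (pushforward f ⋙ Φ (f.base x)) :=
          preservesColimit_of_natIso _ (pushStalkIso f x hcl.isInducing).symm
        infer_instance
      · have z1 : IsZero (∐ fun j => (pushforward f ⋙ Φ y).obj (g j)) :=
          isZero_sigma _ (fun j => @ModuleCat.isZero_of_subsingleton _ _ _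
            (subsingleton_stalk_pushforward f y hcl.isClosed_range hy (g j)))
        have z2 : IsZero ((pushforward f ⋙ Φ y).obj (∐ g)) :=
          @ModuleCat.isZero_of_subsingleton _ _ _
            (subsingleton_stalk_pushforward f y hcl.isClosed_range hy (∐ g))
        exact ⟨⟨0, z1.eq_of_src _ _, z2.eq_of_src _ _⟩⟩
    exact jointlyReflectIsomorphisms_Φ.isIso _
  exact PreservesCoproduct.of_iso_comparison (pushforward f) g

end Coprod


section ProjIso
variable {X Y : Scheme.{u}} (f : X ⟶ Y)

/-- the bifunctor `(A, B) ↦ A ⊗ f^*B` -/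
noncomputable abbrev tensorPull : X.Modules ⥤ Y.Modules ⥤ X.Modules :=
  DCoh.tensorBi (X := X) ⋙ (Functor.whiskeringLeft _ _ _).obj (Scheme.Modules.pullback f)

instance additive_tensorPull_obj (A : X.Modules) : ((tensorPull f).obj A).Additive :=
  inferInstanceAs (Scheme.Modules.pullback f ⋙ (DCoh.tensorBi (X := X)).obj A).Additive

instance preservesZeroMorphisms_tensorPull : (tensorPull f).PreservesZeroMorphisms where
  map_zero A A' := by
    apply NatTrans.ext
    funext B
    show ((DCoh.tensorBi (X := X)).map (0 : A ⟶ A')).app _ = 0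
    rw [Functor.map_zero]
    rfl

variable [IsClosedImmersion f]

/-- the projection formula `f_*A ⊗ B ≅ f_*(A ⊗ f^*B)` for a closed immersion -/
noncomputable def projIso (A : X.Modules) (B : Y.Modules) :
    (DCoh.tensorBi.obj ((pushforward f).obj A)).obj B ≅
      (pushforward f).obj (((tensorPull f).obj A).obj B) :=
  show CohB1.tensorMod ((pushforward f).obj A) B ≅
      (pushforward f).obj (CohB1.tensorMod A ((Scheme.Modules.pullback f).obj B)) from
    asIso (projHom f A B)

lemma projIso_nat₁ {A A' : X.Modules} (a : A ⟶ A') (B : Y.Modules) :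
    (DCoh.tensorBi.map ((pushforward f).map a)).app B ≫ (projIso f A' B).hom =
      (projIso f A B).hom ≫ (pushforward f).map (((tensorPull f).map a).app B) := by
  have h := projHom_naturality f a (𝟙 B)
  rw [CategoryTheory.Functor.map_id] at h
  exact h

lemma projIso_nat₂ (A : X.Modules) {B B' : Y.Modules} (b : B ⟶ B') :
    (DCoh.tensorBi.obj ((pushforward f).obj A)).map b ≫ (projIso f A B').hom =
      (projIso f A B).hom ≫ (pushforward f).map (((tensorPull f).obj A).map b) := by
  have h := projHom_naturality f (𝟙 A) b
  rw [CategoryTheory.Functor.map_id] at h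
  exact h

/-- the pushforward functor on complexes -/
noncomputable abbrev pushC : CochainComplex X.Modules ℤ ⥤ CochainComplex Y.Modules ℤ :=
  (pushforward f).mapHomologicalComplex (ComplexShape.up ℤ)

/-- the projection formula for complexes: `f_*K ⊗ L ≅ f_*(K ⊗ f^*L)` -/
noncomputable def projCxIso (K : CochainComplex X.Modules ℤ) (L : CochainComplex Y.Modules ℤ) :
    (DCoh.tensorCx.obj ((pushC f).obj K)).obj L ≅
      (pushC f).obj ((DCoh.tensorCx.obj K).obj ((pullC f).obj L)) :=
  (show (DCoh.tensorCx.obj ((pushC f).obj K)).obj L ≅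
      mapBifunctor ((pushC f).obj K) (((𝟭 Y.Modules).mapHomologicalComplex
        (ComplexShape.up ℤ)).obj L) (DCoh.tensorBi (X := Y)) (ComplexShape.up ℤ) from
    Iso.refl _) ≪≫
  Stk.MB.mapIso (tensorPull f) (DCoh.tensorBi (X := Y))
    (pushforward f) (𝟭 Y.Modules) (pushforward f) (ComplexShape.up ℤ) K L
    (fun A B => projIso f A B)
    (fun a B => projIso_nat₁ f a B)
    (fun A _ _ b => projIso_nat₂ f A b)

end ProjIso

section Derived
attribute [local instance] HasDerivedCategory.standard
variable {X Y : Scheme.{u}} (f : X ⟶ Y)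

/-- the value of `pushKh` on the class of a complex -/
noncomputable def pushKhObjIso (K : CochainComplex X.Modules ℤ) :
    (DCoh.pushKh f).obj ((HomotopyCategory.quotient _ _).obj K) ≅
      DCoh.toD Y ((pushC f).obj K) :=
  DerivedCategory.Qh.mapIso
      (((pushforward f).mapHomotopyCategoryFactors (ComplexShape.up ℤ)).app K) ≪≫
    (DerivedCategory.quotientCompQhIso Y.Modules).app _

/-- `Rf_*` is computed termwise on K-injective complexes -/
noncomputable def RpushIso [DCoh.HasRpush f] (I : CochainComplex X.Modules ℤ) [I.IsKInjective] :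
    (DCoh.Rpush f).obj (DCoh.toD X I) ≅ DCoh.toD Y ((pushC f).obj I) :=
  haveI := isIso_unitR_app f I
  (DCoh.Rpush f).mapIso ((DerivedCategory.quotientCompQhIso X.Modules).app I).symm ≪≫
    (asIso ((unitR f).app ((HomotopyCategory.quotient _ _).obj I))).symm ≪≫
    pushKhObjIso f I

/-- when `f_*` is exact, `Rf_*` is computed termwise on every complex -/
theorem nonempty_Rpush_iso_of_exact [DCoh.HasRpush f] [PreservesFiniteLimits (pushforward f)]
    [PreservesFiniteColimits (pushforward f)] (K : CochainComplex X.Modules ℤ) :
    Nonempty ((DCoh.Rpush f).obj (DCoh.toD X K) ≅ DCoh.toD Y ((pushC f).obj K)) := by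
  obtain ⟨I, s, hI, hs⟩ := hKinj X K
  haveI := hI
  haveI := hs
  haveI : IsIso (DerivedCategory.Q.map s) := (DerivedCategory.isIso_Q_map_iff_quasiIso _ s).2 hs
  haveI : QuasiIso ((pushC f).map s) := inferInstance
  haveI : IsIso (DerivedCategory.Q.map ((pushC f).map s)) :=
    (DerivedCategory.isIso_Q_map_iff_quasiIso _ _).2 inferInstance
  exact ⟨(DCoh.Rpush f).mapIso (asIso (DerivedCategory.Q.map s)) ≪≫ RpushIso f I ≪≫
    (asIso (DerivedCategory.Q.map ((pushC f).map s))).symm⟩

end Derived

end Groth.Agent.Lib.Helper2.Mon
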