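import Groth.Agent.Lib.Helper2.Mon.ResTensor
import Groth.Agent.Lib.Helper2.LDer.DCohTor
import Groth.Agent.Lib.Helper2.Tot.Symm

set_option autoImplicit false
universe u
open CategoryTheory MonoidalCategory AlgebraicGeometry Opposite TopologicalSpace HomologicalComplex
open Groth.Agent.Lib.Helper13 Groth.Agent.Lib.Helper13.ModSiteTensor
open Groth.Agent.Lib.Helper2 Groth.Agent.Lib.Helper2.Tot

namespace Groth.Agent.Lib.Helper2.Mon

local notation "cc" => ComplexShape.up ℤ

/-- `(𝟭).mapHomologicalComplex K ≅ K` -/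
noncomputable def idHCIso {A : Type*} [Category A] [Preadditive A] (K : CochainComplex A ℤ) :
    ((𝟭 A).mapHomologicalComplex cc).obj K ≅ K :=
  HomologicalComplex.Hom.isoOfComponents (fun i => Iso.refl _)
    (fun i j _ => by
      change 𝟙 (K.X i) ≫ K.d i j = K.d i j ≫ 𝟙 (K.X j)
      rw [Category.id_comp, Category.comp_id])

variable {X : Scheme.{u}}

/-- the braiding `B ⊗ A ≅ A ⊗ B` of `O_X`-modules -/
noncomputable def braidIso (A B : ModSite.Mod (OX X)) : TAssoc.tt (OX X) B A ≅ TAssoc.tt (OX X) A B :=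
  (shf (OX X)).mapIso (β_ ((fgt (OX X)).obj B) ((fgt (OX X)).obj A))

lemma braidIso_nat₁ {A A' : ModSite.Mod (OX X)} (a : A ⟶ A') (B : ModSite.Mod (OX X)) :
    TAssoc.ttR (OX X) B a ≫ (braidIso A' B).hom = (braidIso A B).hom ≫ TAssoc.ttL (OX X) a B := by
  unfold braidIso
  simp only [Functor.mapIso_hom, ← Functor.map_comp]
  congr 1
  exact BraidedCategory.braiding_naturality_right _ _

lemma braidIso_nat₂ (A : ModSite.Mod (OX X)) {B B' : ModSite.Mod (OX X)} (b : B ⟶ B') :
    TAssoc.ttL (OX X) b A ≫ (braidIso A B').hom = (braidIso A B).hom ≫ TAssoc.ttR (OX X) A b := by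
  unfold braidIso
  simp only [Functor.mapIso_hom, ← Functor.map_comp]
  congr 1
  exact BraidedCategory.braiding_naturality_left _ _


/-- the symmetry of the tensor product of complexes, first step -/
noncomputable def symmCxIso₀ (K₁ K₂ : CochainComplex X.Modules ℤ) :
    mapBifunctor (((𝟭 X.Modules).mapHomologicalComplex cc).obj K₁)
        (((𝟭 X.Modules).mapHomologicalComplex cc).obj K₂) (DCoh.tensorBi (X := X)).flip cc ≅
      ((𝟭 X.Modules).mapHomologicalComplex cc).obj (mapBifunctor K₁ K₂ (DCoh.tensorBi (X := X)) cc) :=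
  Stk.MB.mapIso (DCoh.tensorBi (X := X)) (DCoh.tensorBi (X := X)).flip
    (𝟭 X.Modules) (𝟭 X.Modules) (𝟭 X.Modules) cc K₁ K₂
    (fun A B => braidIso (X := X) A B)
    (fun a B => braidIso_nat₁ (X := X) a B)
    (fun A _ _ b => braidIso_nat₂ (X := X) A b)


/-- the symmetry of the tensor product of complexes of `O_X`-modules: `K₂ ⊗ K₁ ≅ K₁ ⊗ K₂` -/
noncomputable def symmCxIso (K₁ K₂ : CochainComplex X.Modules ℤ) :
    mapBifunctor K₂ K₁ (DCoh.tensorBi (X := X)) cc ≅
      mapBifunctor K₁ K₂ (DCoh.tensorBi (X := X)) cc :=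
  (mapBifunctorFlipIso K₂ K₁ (DCoh.tensorBi (X := X)) cc).symm ≪≫
    (((DCoh.tensorBi (X := X)).flip.map₂CochainComplex.mapIso (idHCIso K₁).symm).app K₂ ≪≫
      (((DCoh.tensorBi (X := X)).flip.map₂CochainComplex.obj _).mapIso (idHCIso K₂).symm)) ≪≫
    symmCxIso₀ K₁ K₂ ≪≫ idHCIso _

/-- K-flatness in the first and in the second variable agree. -/
theorem good_iff_kflat (P : CochainComplex X.Modules ℤ) :
    LDer.DC.Good P ↔ KFlat (DCoh.tensorBi (X := X)) P := by
  unfold LDer.DC.Good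
  rw [kflat_flip_iff]
  constructor
  · intro h K hK
    exact acyclic_of_iso (symmCxIso K P) (h K hK)
  · intro h K hK
    exact acyclic_of_iso (symmCxIso P K) (h K hK)

theorem good_iff_isKFlat (P : CochainComplex X.Modules ℤ) :
    LDer.DC.Good P ↔ DCoh.IsKFlat P :=
  (good_iff_kflat P).trans (DC.isKFlat_iff P).symm

end Groth.Agent.Lib.Helper2.Mon
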