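import Groth.Agent.Lib.Helper2.Stk.Pull
import Groth.Agent.Lib.Helper2.Stk.Lpull
import Groth.Agent.Lib.Helper2.Stk.PullKFlat
import Groth.Agent.Lib.Helper2.Stk.LTensorCx
import Groth.Agent.Lib.Helper2.Mon.TensorSymm
import Groth.Agent.Lib.Helper3.PbTensor

/-!
# Pullback of modules commutes with tensor products (helper2)

For an arbitrary morphism of schemes `f : X ⟶ Y` and `O_Y`-modules `M`, `N`, the comparison map
`delta f M N : f^*(M ⊗ N) ⟶ f^*M ⊗ f^*N` (helper3's `PbTensor.delta`) is an isomorphism, naturally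
in `M` and `N`.  The proof computes the map on stalks (`stalk_delta_formula`), using the
description `(f^*M)_x ≅ O_{X,x} ⊗ M_{f x}` and `(A ⊗ B)_x ≅ A_x ⊗ B_x`.

* `isIso_delta`, `delta_naturality`
* `pullTensorIso f A B : f^*A ⊗ f^*B ≅ f^*(A ⊗ B)` (+ `_nat₁`, `_nat₂`)
* `pullTensorCxIso f K L : f^*K ⊗ f^*L ≅ f^*(K ⊗ L)` for complexes
* `kflat_tensorCx` : the tensor product of K-flat complexes is K-flat
-/

set_option autoImplicit false
universe u
open CategoryTheory CategoryTheory.Limits AlgebraicGeometry TopologicalSpace Opposite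
  MonoidalCategory TensorProduct
open Groth.Agent.Lib.Helper13 Groth.Agent.Lib.Helper13.TensorLocal
  Groth.Agent.Lib.Helper13.ModSiteTensor
open Groth.Agent.Lib.Helper2.Stk Groth.Agent.Lib.Helper2.Tot
open Groth.Agent.Lib.Helper3 Groth.Agent.Lib.Helper3.PbBasic Groth.Agent.Lib.Helper3.InvTensor
  Groth.Agent.Lib.Helper3.InvMonoidal Groth.Agent.Lib.Helper3.PbTensor

namespace Groth.Agent.Lib.Helper2.Mon

section A
variable {X Y : Scheme.{u}} (f : X ⟶ Y) (x : X)

/-- The first adjunction used in `pullStalkIso`. -/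
noncomputable abbrev adjA : Scheme.Modules.pullback f ⋙ Φ x ⊣
    ModuleCat.restrictScalars (φst f x) ⋙ skyF (f.base x) :=
  ((Scheme.Modules.pullbackPushforwardAdjunction f).comp (stalkSkyAdj x)).ofNatIsoRight
    (pushSkyIso f x)

/-- The second adjunction used in `pullStalkIso`. -/
noncomputable abbrev adjB : Φ (f.base x) ⋙ ModuleCat.extendScalars (φst f x) ⊣
    ModuleCat.restrictScalars (φst f x) ⋙ skyF (f.base x) :=
  (stalkSkyAdj (f.base x)).comp (ModuleCat.extendRestrictScalarsAdj (φst f x))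

lemma adjA_unit_app (M : Y.Modules) :
    (adjA f x).unit.app M =
      (Scheme.Modules.pullbackPushforwardAdjunction f).unit.app M ≫
        (Scheme.Modules.pushforward f).map (unitApp x ((Scheme.Modules.pullback f).obj M)) ≫
          pushSkyHom f x ((Φ x).obj ((Scheme.Modules.pullback f).obj M)) := by
  have h := Adjunction.homEquiv_ofNatIsoRight_apply
    ((Scheme.Modules.pullbackPushforwardAdjunction f).comp (stalkSkyAdj x)) (pushSkyIso f x)
    (𝟙 ((Scheme.Modules.pullback f ⋙ Φ x).obj M))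
  have h2 : (adjA f x).unit.app M =
      ((Scheme.Modules.pullbackPushforwardAdjunction f).comp (stalkSkyAdj x)).unit.app M ≫
        (pushSkyIso f x).hom.app _ := by
    simpa using h
  rw [h2, Adjunction.comp_unit_app, Category.assoc]
  rfl

lemma adjB_unit_app (M : Y.Modules) :
    (adjB f x).unit.app M =
      unitApp (f.base x) M ≫ skyMap (f.base x)
        ((ModuleCat.extendRestrictScalarsAdj (φst f x)).unit.app ((Φ (f.base x)).obj M)) :=
  Adjunction.comp_unit_app _ _ _

open ChangeOfRings in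
lemma pullStalkIso_hom_germ (M : Y.Modules) (V : Y.Opens) (hx : f.base x ∈ V) (m : Γ(M, V)) :
    (pullStalkIso f x).hom.app M
      (((Scheme.Modules.pullback f).obj M).presheaf.germ (f ⁻¹ᵁ V) x hx (pull f M V m)) =
    ((1 : X.presheaf.stalk x) ⊗ₜ[Y.presheaf.stalk (f.base x), φst f x]
      (M.presheaf.germ V (f.base x) hx m) :) := by
  have h := Adjunction.unit_leftAdjointUniq_hom_app (adjA f x) (adjB f x) M
  rw [adjA_unit_app, adjB_unit_app] at h
  have h2 := congrArg (fun ψ => ((Scheme.Modules.Hom.app ψ V) m :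
    SkySec (f.base x) _ V) ⟨hx⟩) h
  exact h2

open ChangeOfRings in
lemma pullStalkIso_inv_tmul (M : Y.Modules) (V : Y.Opens) (hx : f.base x ∈ V) (m : Γ(M, V)) :
    (pullStalkIso f x).inv.app M
      ((1 : X.presheaf.stalk x) ⊗ₜ[Y.presheaf.stalk (f.base x), φst f x]
        (M.presheaf.germ V (f.base x) hx m) :) =
    ((Scheme.Modules.pullback f).obj M).presheaf.germ (f ⁻¹ᵁ V) x hx (pull f M V m) := by
  rw [← pullStalkIso_hom_germ]
  exact ConcreteCategory.congr_hom ((pullStalkIso f x).hom_inv_id_app M) _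

end A

section B
variable {X : Scheme.{u}}

lemma tensorIso_hom_germ (A F : X.Modules) (x : X) (U : X.Opens) (hx : x ∈ U)
    (a : Γ(A, U)) (b : Γ(F, U)) :
    (tensorIso A F x).hom ((A.presheaf.germ U x hx a) ⊗ₜ[X.presheaf.stalk x]
        (F.presheaf.germ U x hx b)) =
      (CohB1.tensorMod A F).presheaf.germ U x hx (tm A F U a b) := by
  rw [tensorIso_hom_apply]
  have h1 := tensorStalkEquiv_tmul_gm (R := X.presheaf) ((fgt X.sheaf).obj A)
    ((fgt X.sheaf).obj F) x U hx a b
  have h2 := stMap_gm (R := X.presheaf)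
    (ηsh ((fgt X.sheaf).obj A ⊗ (fgt X.sheaf).obj F)) x U hx
    (a ⊗ₜ[X.presheaf.obj (op U)] b)
  rw [shStalkEquiv_apply]
  exact (congrArg _ h1).trans h2

lemma exists_germ₂ (A F : X.Modules) (x : X) (a : A.presheaf.stalk x) (b : F.presheaf.stalk x) :
    ∃ (U : X.Opens) (hx : x ∈ U) (s : Γ(A, U)) (t : Γ(F, U)),
      A.presheaf.germ U x hx s = a ∧ F.presheaf.germ U x hx t = b := by
  obtain ⟨U₁, hx₁, s₁, h₁⟩ := TopCat.Presheaf.exists_germ_eq A.presheaf a
  obtain ⟨U₂, hx₂, t₂, h₂⟩ := TopCat.Presheaf.exists_germ_eq F.presheaf b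
  refine ⟨U₁ ⊓ U₂, ⟨hx₁, hx₂⟩, A.presheaf.map (homOfLE inf_le_left).op s₁,
    F.presheaf.map (homOfLE inf_le_right).op t₂, ?_, ?_⟩
  · rw [TopCat.Presheaf.germ_res_apply, h₁]
  · rw [TopCat.Presheaf.germ_res_apply, h₂]

end B

section C
variable {X Y : Scheme.{u}} (f : X ⟶ Y) (x : X) (M N : Y.Modules)

open Functor.OplaxMonoidal ChangeOfRings in
/-- The key formula for the stalk of the comparison map `f^*(M ⊗ N) ⟶ f^*M ⊗ f^*N`. -/
theorem stalk_delta_formula :
    (ModuleCat.extendScalars (φst f x)).map (tensorIso M N (f.base x)).hom ≫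
        (pullStalkIso f x).inv.app (CohB1.tensorMod M N) ≫ (Φ x).map (delta f M N) =
      δ (ModuleCat.extendScalars (φst f x)) ((Φ (f.base x)).obj M) ((Φ (f.base x)).obj N) ≫
        ((pullStalkIso f x).inv.app M ⊗ₘ (pullStalkIso f x).inv.app N) ≫
          (tensorIso ((Scheme.Modules.pullback f).obj M) ((Scheme.Modules.pullback f).obj N)
            x).hom := by
  apply ((ModuleCat.extendRestrictScalarsAdj (φst f x)).homEquiv _ _).injective
  apply ModuleCat.MonoidalCategory.tensor_ext
  intro a b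
  obtain ⟨V, hx, m, n, rfl, rfl⟩ := exists_germ₂ M N (f.base x) a b
  rw [ModuleCat.extendRestrictScalarsAdj_homEquiv_apply,
    ModuleCat.extendRestrictScalarsAdj_homEquiv_apply]
  have L1 : (ModuleCat.extendScalars (φst f x)).map (tensorIso M N (f.base x)).hom
      ((1 : X.presheaf.stalk x) ⊗ₜ[Y.presheaf.stalk (f.base x), φst f x]
        ((M.presheaf.germ V (f.base x) hx m) ⊗ₜ[Y.presheaf.stalk (f.base x)]
          (N.presheaf.germ V (f.base x) hx n)) :) =
      ((1 : X.presheaf.stalk x) ⊗ₜ[Y.presheaf.stalk (f.base x), φst f x]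
        ((CohB1.tensorMod M N).presheaf.germ V (f.base x) hx (tm M N V m n)) :) := by
    erw [ModuleCat.ExtendScalars.map_tmul]
    erw [tensorIso_hom_germ]
    rfl
  have L2 := pullStalkIso_inv_tmul f x (CohB1.tensorMod M N) V hx (tm M N V m n)
  have L3 := DerSch.stalkFunctor_map_germ x (delta f M N) (f ⁻¹ᵁ V) hx
    (pull f (CohB1.tensorMod M N) V (tm M N V m n))
  have L4 := delta_pull_tm f M N V m n
  have R1 := ModuleCat.extendScalars_δ_tmul (φst f x) ((Φ (f.base x)).obj M)
    ((Φ (f.base x)).obj N) (M.presheaf.germ V (f.base x) hx m) (N.presheaf.germ V (f.base x) hx n)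
  have R2 := pullStalkIso_inv_tmul f x M V hx m
  have R3 := pullStalkIso_inv_tmul f x N V hx n
  have R4 := tensorIso_hom_germ ((Scheme.Modules.pullback f).obj M)
    ((Scheme.Modules.pullback f).obj N) x (f ⁻¹ᵁ V) hx (pull f M V m) (pull f N V n)
  refine Eq.trans (b := (CohB1.tensorMod ((Scheme.Modules.pullback f).obj M)
      ((Scheme.Modules.pullback f).obj N)).presheaf.germ (f ⁻¹ᵁ V) x hx
      (tm _ _ (f ⁻¹ᵁ V) (pull f M V m) (pull f N V n))) ?_ ?_
  · refine Eq.trans (congrArg (fun z => (Φ x).map (delta f M N)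
      ((pullStalkIso f x).inv.app (CohB1.tensorMod M N) z)) L1) ?_
    refine Eq.trans (congrArg (fun z => (Φ x).map (delta f M N) z) L2) ?_
    refine Eq.trans L3 ?_
    exact congrArg _ L4
  · symm
    refine Eq.trans (congrArg (fun z => (tensorIso ((Scheme.Modules.pullback f).obj M)
      ((Scheme.Modules.pullback f).obj N) x).hom
        (((pullStalkIso f x).inv.app M ⊗ₘ (pullStalkIso f x).inv.app N) z)) R1) ?_
    refine Eq.trans ?_ R4
    refine congrArg (fun z => (tensorIso ((Scheme.Modules.pullback f).obj M)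
      ((Scheme.Modules.pullback f).obj N) x).hom z) ?_
    refine Eq.trans (ModuleCat.MonoidalCategory.tensorHom_tmul _ _ _ _) ?_
    exact congrArg₂ (fun a b => a ⊗ₜ[X.presheaf.stalk x] b) R2 R3

instance isIso_stalk_delta : IsIso ((Φ x).map (delta f M N)) := by
  have h := stalk_delta_formula f x M N
  have h1 : IsIso ((ModuleCat.extendScalars (φst f x)).map (tensorIso M N (f.base x)).hom ≫
        (pullStalkIso f x).inv.app (CohB1.tensorMod M N) ≫ (Φ x).map (delta f M N)) := by
    rw [h]
    exact ((Functor.Monoidal.μIso (ModuleCat.extendScalars (φst f x))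
      ((Φ (f.base x)).obj M) ((Φ (f.base x)).obj N)).symm ≪≫
      (((pullStalkIso f x).app M).symm ⊗ᵢ ((pullStalkIso f x).app N).symm) ≪≫
      tensorIso ((Scheme.Modules.pullback f).obj M) ((Scheme.Modules.pullback f).obj N)
        x).isIso_hom
  have h2 := @IsIso.of_isIso_comp_left _ _ _ _ _ _ _ _ h1
  have h3 : IsIso ((pullStalkIso f x).inv.app (CohB1.tensorMod M N)) :=
    ((pullStalkIso f x).app (CohB1.tensorMod M N)).symm.isIso_hom
  exact @IsIso.of_isIso_comp_left _ _ _ _ _ _ _ h3 h2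

instance isIso_delta : IsIso (delta f M N) :=
  haveI := fun x => isIso_stalk_delta f x M N
  jointlyReflectIsomorphisms_Φ.isIso _

end C

section D
variable {X : Scheme.{u}}

theorem tensorMod_hom_ext {M N K : X.Modules} {g g' : CohB1.tensorMod M N ⟶ K}
    (h : ∀ (U : X.Opens) (m : Γ(M, U)) (n : Γ(N, U)),
      g.app U (tm M N U m n) = g'.app U (tm M N U m n)) : g = g' := by
  apply ((QCExact.adjSh X).homEquiv _ _).injective
  ext U : 1
  refine ModuleCat.MonoidalCategory.tensor_ext (M₁ := (CohB1.toPMod M).obj U)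
    (M₂ := (CohB1.toPMod N).obj U) ?_
  intro m n
  exact h U.unop m n

end D

section E
variable {X Y : Scheme.{u}} (f : X ⟶ Y)

theorem delta_naturality {M M' N N' : Y.Modules} (a : M ⟶ M') (b : N ⟶ N') :
    (Scheme.Modules.pullback f).map (tensorMap a b) ≫ delta f M' N' =
      delta f M N ≫ tensorMap ((Scheme.Modules.pullback f).map a)
        ((Scheme.Modules.pullback f).map b) := by
  apply ((Scheme.Modules.pullbackPushforwardAdjunction f).homEquiv _ _).injective
  rw [Adjunction.homEquiv_naturality_left, Adjunction.homEquiv_naturality_right]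
  have e1 : (Scheme.Modules.pullbackPushforwardAdjunction f).homEquiv _ _ (delta f M N) =
      deltaFlat f M N := Equiv.apply_symm_apply _ _
  have e2 : (Scheme.Modules.pullbackPushforwardAdjunction f).homEquiv _ _ (delta f M' N') =
      deltaFlat f M' N' := Equiv.apply_symm_apply _ _
  rw [e1, e2]
  apply tensorMod_hom_ext
  intro U m n
  show (deltaFlat f M' N').app U ((tensorMap a b).app U (tm M N U m n)) =
    (tensorMap ((Scheme.Modules.pullback f).map a) ((Scheme.Modules.pullback f).map b)).app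
      (f ⁻¹ᵁ U) ((deltaFlat f M N).app U (tm M N U m n))
  rw [tensorMap_tm, deltaFlat_tm, deltaFlat_tm, tensorMap_tm, pull_app, pull_app]

end E

section F
variable {X Y : Scheme.{u}} (f : X ⟶ Y)

lemma tensorBi_map_app {M M' : X.Modules} (a : M ⟶ M') (N : X.Modules) :
    (DCoh.tensorBi.map a).app N = tensorMap a (𝟙 N) := by
  show aMap _ = aMap _
  congr 1

lemma tensorBi_obj_map (M : X.Modules) {N N' : X.Modules} (b : N ⟶ N') :
    (DCoh.tensorBi.obj M).map b = tensorMap (𝟙 M) b := by
  show aMap _ = aMap _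
  congr 1

/-- `f^*A ⊗ f^*B ≅ f^*(A ⊗ B)`. -/
noncomputable def pullTensorIso (A B : Y.Modules) :
    (DCoh.tensorBi.obj ((Scheme.Modules.pullback f).obj A)).obj
        ((Scheme.Modules.pullback f).obj B) ≅
      (Scheme.Modules.pullback f).obj ((DCoh.tensorBi.obj A).obj B) :=
  (asIso (delta f A B)).symm

lemma pullTensorIso_nat₁ {A A' : Y.Modules} (a : A ⟶ A') (B : Y.Modules) :
    (DCoh.tensorBi.map ((Scheme.Modules.pullback f).map a)).app
        ((Scheme.Modules.pullback f).obj B) ≫ (pullTensorIso f A' B).hom =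
      (pullTensorIso f A B).hom ≫
        (Scheme.Modules.pullback f).map ((DCoh.tensorBi.map a).app B) := by
  have h := delta_naturality f a (𝟙 B)
  rw [CategoryTheory.Functor.map_id] at h
  rw [tensorBi_map_app, tensorBi_map_app]
  show _ ≫ inv (delta f A' B) = inv (delta f A B) ≫ _
  rw [IsIso.comp_inv_eq, Category.assoc, IsIso.eq_inv_comp]
  exact h.symm

lemma pullTensorIso_nat₂ (A : Y.Modules) {B B' : Y.Modules} (b : B ⟶ B') :
    (DCoh.tensorBi.obj ((Scheme.Modules.pullback f).obj A)).map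
        ((Scheme.Modules.pullback f).map b) ≫ (pullTensorIso f A B').hom =
      (pullTensorIso f A B).hom ≫
        (Scheme.Modules.pullback f).map ((DCoh.tensorBi.obj A).map b) := by
  have h := delta_naturality f (𝟙 A) b
  rw [CategoryTheory.Functor.map_id] at h
  rw [tensorBi_obj_map, tensorBi_obj_map]
  show _ ≫ inv (delta f A B') = inv (delta f A B) ≫ _
  rw [IsIso.comp_inv_eq, Category.assoc, IsIso.eq_inv_comp]
  exact h.symm

/-- `f^*K ⊗ f^*L ≅ f^*(K ⊗ L)` for complexes of modules. -/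
noncomputable def pullTensorCxIso (K L : CochainComplex Y.Modules ℤ) :
    (DCoh.tensorCx.obj ((pullC f).obj K)).obj ((pullC f).obj L) ≅
      (pullC f).obj ((DCoh.tensorCx.obj K).obj L) :=
  Stk.MB.mapIso (DCoh.tensorBi (X := Y)) (DCoh.tensorBi (X := X))
    (Scheme.Modules.pullback f) (Scheme.Modules.pullback f)
    (Scheme.Modules.pullback f) (ComplexShape.up ℤ) K L
    (fun A B => pullTensorIso f A B)
    (fun a B => pullTensorIso_nat₁ f a B)
    (fun A _ _ b => pullTensorIso_nat₂ f A b)

/-- The tensor product of K-flat complexes is K-flat. -/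
theorem kflat_tensorCx (K L : CochainComplex X.Modules ℤ)
    (hK : KFlat (DCoh.tensorBi (X := X)) K) (hL : KFlat (DCoh.tensorBi (X := X)) L) :
    KFlat (DCoh.tensorBi (X := X)) ((DCoh.tensorCx.obj K).obj L) := by
  intro Z hZ
  exact Stk.acyclic_of_iso (LT.cxAssoc Z K L) (hL _ (hK Z hZ))

end F

end Groth.Agent.Lib.Helper2.Mon
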