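import Groth.Agent.Lib.Helper2.Aff.TensorQCohD
import Groth.Agent.Lib.Helper13.PerfTri
import Groth.Agent.Lib.Helper13.PerfFree
import Groth.Agent.Lib.Helper3.FreeBasis
import Groth.Agent.Lib.Helper2.Stk.PerfPull
import Groth.Agent.Lib.Helper2.Tot.Bounded

/-!
# Tensor products of finite locally free modules, strictly perfect complexes and perfect objects (helper2)
-/

set_option autoImplicit false
universe u
open CategoryTheory CategoryTheory.Limits MonoidalCategory AlgebraicGeometry Opposite TopologicalSpace HomologicalComplex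
open Groth.Agent.Lib.Helper2 Groth.Agent.Lib.Helper2.Tot Groth.Agent.Lib.Helper2.Stk

attribute [local instance] HasDerivedCategory.standard

namespace Groth.Agent.Lib.Helper2.Mon

local notation "cc" => ComplexShape.up ℤ

variable {X : Scheme.{u}}

/-- a coproduct of free modules of finite ranks, with finite total rank, is free of finite rank -/
lemma nonempty_sigma_freeMod_iso (Y : Scheme.{u}) {S : Type} (n : S → ℕ)
    [Finite (Σ a, Fin (n a))] :
    ∃ N : ℕ, Nonempty ((∐ fun a : S => FlatMod.freeMod Y (n a)) ≅ FlatMod.freeMod Y N) := by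
  classical
  let N := Nat.card (Σ a, Fin (n a))
  let ε : (Σ a, Fin (n a)) ≃ Fin N := Finite.equivFin _
  refine ⟨N, ⟨sigmaSigmaIso (fun a => Fin (n a)) (fun _ _ => Coh.structureModule Y) ≪≫
    Sigma.whiskerEquiv (f := fun _ : (Σ a, Fin (n a)) => Coh.structureModule Y)
      (g := fun _ : Fin N => Coh.structureModule Y) ε (fun _ => Iso.refl _)⟩⟩


/-- `O^n ⊗ O^m` is free of finite rank -/
lemma nonempty_freeMod_tensor_iso (Y : Scheme.{u}) (n m : ℕ) :
    ∃ N : ℕ, Nonempty (((DCoh.tensorBi (X := Y)).obj (FlatMod.freeMod Y n)).obj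
      (FlatMod.freeMod Y m) ≅ FlatMod.freeMod Y N) := by
  let T : Y.Modules ⥤ Y.Modules := (DCoh.tensorBi (X := Y)).flip.obj (FlatMod.freeMod Y m)
  haveI : PreservesColimitsOfSize.{u, u} T :=
    Groth.Agent.Lib.Helper13.ModSiteFlat.preservesColimitsOfSize_flip (OX Y) (FlatMod.freeMod Y m)
  haveI : PreservesColimitsOfSize.{0, 0} T := preservesSmallestColimits_of_preservesColimits.{u, u} _
  let e1 : T.obj (FlatMod.freeMod Y n) ≅ ∐ fun _ : Fin n => T.obj (Coh.structureModule Y) :=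
    PreservesCoproduct.iso T (fun _ : Fin n => Coh.structureModule Y)
  let e2 : T.obj (Coh.structureModule Y) ≅ FlatMod.freeMod Y m :=
    (Groth.Agent.Lib.Helper13.ModSiteUnitor.leftUnitorIso (OX Y)).app (FlatMod.freeMod Y m)
  obtain ⟨N, ⟨e3⟩⟩ := nonempty_sigma_freeMod_iso Y (fun _ : Fin n => m)
  exact ⟨N, ⟨e1 ≪≫ Sigma.mapIso (fun _ => e2) ≪≫ e3⟩⟩

/-- a local trivialization of a finite locally free module can be found inside any given
neighbourhood -/
lemma exists_restrict_iso_freeMod {M : X.Modules} (hM : FlatMod.IsFinLocFree M) (x : X)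
    (W : X.Opens) (hx : x ∈ W) :
    ∃ (U : X.Opens) (n : ℕ), U ≤ W ∧ x ∈ U ∧
      Nonempty (M.restrict U.ι ≅ FlatMod.freeMod (U : Scheme.{u}) n) := by
  obtain ⟨U₁, n, hx₁, ⟨φ⟩⟩ := hM x
  obtain ⟨e, he⟩ := Groth.Agent.Lib.Helper3.FreeBasis.exists_isBasis_of_iso φ
  exact ⟨U₁ ⊓ W, n, inf_le_right, ⟨hx₁, hx⟩,
    Groth.Agent.Lib.Helper3.FreeBasis.nonempty_iso_of_isBasis (he.mono inf_le_left)⟩

/-- refinement of a trivialization to a smaller open -/
lemma nonempty_restrict_iso_freeMod_of_le {M : X.Modules} {U U' : X.Opens} (h : U' ≤ U) {n : ℕ}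
    (φ : M.restrict U.ι ≅ FlatMod.freeMod (U : Scheme.{u}) n) :
    Nonempty (M.restrict U'.ι ≅ FlatMod.freeMod (U' : Scheme.{u}) n) := by
  obtain ⟨e, he⟩ := Groth.Agent.Lib.Helper3.FreeBasis.exists_isBasis_of_iso φ
  exact Groth.Agent.Lib.Helper3.FreeBasis.nonempty_iso_of_isBasis (he.mono h)

/-- the tensor product of finite locally free modules is finite locally free -/
theorem isFinLocFree_tensor (A B : X.Modules) (hA : FlatMod.IsFinLocFree A)
    (hB : FlatMod.IsFinLocFree B) :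
    FlatMod.IsFinLocFree (((DCoh.tensorBi (X := X)).obj A).obj B) := by
  intro x
  obtain ⟨U₁, n, hx₁, ⟨φ₁⟩⟩ := hA x
  obtain ⟨U, m, hU, hx, ⟨φ₂⟩⟩ := exists_restrict_iso_freeMod hB x U₁ hx₁
  obtain ⟨φ₁'⟩ := nonempty_restrict_iso_freeMod_of_le hU φ₁
  obtain ⟨N, ⟨e⟩⟩ := nonempty_freeMod_tensor_iso (U : Scheme.{u}) n m
  refine ⟨U, N, hx, ⟨(resTensorIso' U.ι A B).symm ≪≫
    ((DCoh.tensorBi (X := (U : Scheme.{u}))).mapIso φ₁').app _ ≪≫
    ((DCoh.tensorBi (X := (U : Scheme.{u}))).obj _).mapIso φ₂ ≪≫ e⟩⟩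


/-- a coproduct of finite locally free modules, all but finitely many of which vanish, is finite
locally free -/
theorem isFinLocFree_of_isColimit_cofan {S : Type} (M : S → X.Modules) (c : Cofan M)
    (hc : IsColimit c) (s : Finset S) (h0 : ∀ a, a ∉ s → IsZero (M a))
    (h1 : ∀ a, FlatMod.IsFinLocFree (M a)) : FlatMod.IsFinLocFree c.pt := by
  classical
  intro x
  choose U n hxU φ using fun a => h1 a x
  let V : X.Opens := s.inf U
  have hxV : x ∈ V := Groth.Agent.Lib.Helper13.PerfFree.mem_finset_inf s U x (fun a _ => hxU a)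
  let n' : S → ℕ := fun a => if a ∈ s then n a else 0
  have hφ : ∀ a, Nonempty ((M a).restrict V.ι ≅ FlatMod.freeMod (V : Scheme.{u}) (n' a)) := by
    intro a
    by_cases ha : a ∈ s
    · simp only [n', if_pos ha]
      exact nonempty_restrict_iso_freeMod_of_le (Finset.inf_le ha) (φ a).some
    · simp only [n', if_neg ha]
      exact ⟨IsZero.iso ((Scheme.Modules.restrictFunctor V.ι).map_isZero (h0 a ha))
        (Groth.Agent.Lib.Helper13.PerfFree.isZero_freeMod_zero _)⟩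
  haveI : Finite (Σ a, Fin (n' a)) := by
    refine Finite.of_surjective (fun p : (Σ a : s, Fin (n' a.1)) => (⟨p.1.1, p.2⟩ : Σ a, Fin (n' a))) ?_
    rintro ⟨a, i⟩
    have ha : a ∈ s := by
      by_contra ha
      have : n' a = 0 := if_neg ha
      rw [this] at i
      exact Fin.elim0 i
    exact ⟨⟨⟨a, ha⟩, i⟩, rfl⟩
  obtain ⟨N, ⟨e3⟩⟩ := nonempty_sigma_freeMod_iso (V : Scheme.{u}) n'
  haveI : HasCoproduct M := ⟨⟨⟨c, hc⟩⟩⟩
  let e0 : c.pt ≅ ∐ M := IsColimit.coconePointUniqueUpToIso hc (colimit.isColimit _)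
  refine ⟨V, N, hxV, ⟨(Scheme.Modules.restrictFunctor V.ι).mapIso e0 ≪≫
    PreservesCoproduct.iso (Scheme.Modules.restrictFunctor V.ι) M ≪≫
    Sigma.mapIso (fun a => (hφ a).some) ≪≫ e3⟩⟩


/-- the tensor product of strictly perfect complexes is strictly perfect -/
theorem isStrictlyPerfect_tensorCx (E₁ E₂ : CochainComplex X.Modules ℤ)
    (h₁ : DCoh.IsStrictlyPerfect E₁) (h₂ : DCoh.IsStrictlyPerfect E₂) :
    DCoh.IsStrictlyPerfect ((DCoh.tensorCx.obj E₁).obj E₂) := by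
  classical
  obtain ⟨⟨a₁, b₁, hv₁⟩, hf₁⟩ := h₁
  obtain ⟨⟨a₂, b₂, hv₂⟩, hf₂⟩ := h₂
  have hz : ∀ p q : ℤ, (p < a₁ ∨ b₁ < p) ∨ (q < a₂ ∨ b₂ < q) →
      IsZero (((DCoh.tensorBi (X := X)).obj (E₁.X p)).obj (E₂.X q)) := by
    rintro p q (h | h)
    · have h0 : IsZero ((DCoh.tensorBi (X := X)).obj (E₁.X p)) :=
        (DCoh.tensorBi (X := X)).map_isZero (hv₁ p h)
      exact (Functor.isZero_iff _).1 h0 _
    · exact ((DCoh.tensorBi (X := X)).obj (E₁.X p)).map_isZero (hv₂ q h)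
  refine ⟨⟨a₁ + a₂, b₁ + b₂, ?_⟩, ?_⟩
  · intro n hn
    rw [IsZero.iff_id_eq_zero]
    apply mapBifunctor.hom_ext
    intro p q hpq
    have hpq' : p + q = n := hpq
    exact (hz p q (by omega)).eq_of_src _ _
  · intro n
    let f : (ComplexShape.π cc cc cc) ⁻¹' {n} → X.Modules :=
      fun a => ((DCoh.tensorBi (X := X)).obj (E₁.X a.1.1)).obj (E₂.X a.1.2)
    have hc := GradedObject.isColimitCofanMapObj
      (((((DCoh.tensorBi (X := X)).mapBifunctorHomologicalComplex cc cc).obj E₁).obj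
        E₂).toGradedObject) (ComplexShape.π cc cc cc) n
    let s₀ : Finset (ℤ × ℤ) := (Finset.Icc a₁ b₁) ×ˢ (Finset.Icc a₂ b₂)
    let s : Finset ((ComplexShape.π cc cc cc) ⁻¹' {n}) :=
      s₀.subtype (fun a => a ∈ (ComplexShape.π cc cc cc) ⁻¹' {n})
    refine isFinLocFree_of_isColimit_cofan f _ hc s ?_ ?_
    · intro a ha
      have ha' : ¬ (a.1 ∈ s₀) := fun h => ha (Finset.mem_subtype.2 h)
      apply hz
      simp only [s₀, Finset.mem_product, Finset.mem_Icc, not_and_or, not_le] at ha'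
      omega
    · intro a
      exact isFinLocFree_tensor _ _ (hf₁ _) (hf₂ _)


open Groth.Agent.Lib.Helper13 in
/-- **`K ⊗^L L` is perfect when `K` and `L` are** -/
theorem isPerfect_LTensorCx (L : CochainComplex X.Modules ℤ)
    (hLp : DCoh.IsPerfect (DerivedCategory.Q.obj L)) [DCoh.HasLTensorCx L] (K : DCoh.D X)
    (hK : DCoh.IsPerfect K) : DCoh.IsPerfect ((DCoh.LTensorCx L).obj K) := by
  obtain ⟨P, s, hP, _, _, hs, _⟩ :=
    Groth.Agent.Lib.Helper2.LDer.DC.exists_good_resolution (DerivedCategory.Q.objPreimage K)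
  haveI : IsIso (DerivedCategory.Q.map s) := (DerivedCategory.isIso_Q_map_iff_quasiIso _ s).2 hs
  let eK : DCoh.toD X P ≅ K :=
    asIso (DerivedCategory.Q.map s) ≪≫ DerivedCategory.Q.objObjPreimageIso K
  have e0 : (DCoh.LTensorCx L).obj K ≅ DCoh.toD X ((DCoh.tensorCx.obj P).obj L) :=
    (DCoh.LTensorCx L).mapIso eK.symm ≪≫ LT.LTensorCxIso L P hP
  refine PerfTri.isPerfect_of_iso e0.symm ?_
  rw [PerfTri.isPerfect_iff]
  intro x
  obtain ⟨V₁, hx₁, h₁⟩ := (PerfTri.isPerfect_iff K).1 hK x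
  obtain ⟨V₂, hx₂, h₂⟩ := (PerfTri.isPerfect_iff _).1 hLp x
  let V : X.Opens := V₁ ⊓ V₂
  have hV₁ : V ≤ V₁ := inf_le_left
  have hV₂ : V ≤ V₂ := inf_le_right
  obtain ⟨E₁, hE₁, ⟨e₁⟩⟩ := PerfTri.LPD.comp (X.homOfLE hV₁) V₁.ι V.ι (X.homOfLE_ι hV₁).symm h₁
  obtain ⟨E₂, hE₂, ⟨e₂⟩⟩ := PerfTri.LPD.comp (X.homOfLE hV₂) V₂.ι V.ι (X.homOfLE_ι hV₂).symm h₂
  refine ⟨V, ⟨hx₁, hx₂⟩, (DCoh.tensorCx.obj E₁).obj E₂, isStrictlyPerfect_tensorCx E₁ E₂ hE₁ hE₂, ?_⟩
  let rj := (Scheme.Modules.restrictFunctor V.ι).mapHomologicalComplex cc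
  have hgP : LDer.DC.Good (rj.obj P) := good_restrict V.ι P hP
  have hgE : LDer.DC.Good E₁ := (good_iff_kflat E₁).2 (kflat_of_isStrictlyPerfect E₁ hE₁)
  have eP : DCoh.toD _ (rj.obj P) ≅ DCoh.toD _ E₁ :=
    ((Scheme.Modules.restrictFunctor V.ι).mapDerivedCategoryFactors.app P).symm ≪≫
      (DCoh.restrictD V.ι).mapIso eK ≪≫ e₁
  have eL : DCoh.toD _ (rj.obj L) ≅ DCoh.toD _ E₂ :=
    ((Scheme.Modules.restrictFunctor V.ι).mapDerivedCategoryFactors.app L).symm ≪≫ e₂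
  obtain ⟨e3⟩ := nonempty_tensor_iso_of_good hgP hgE eP (rj.obj L)
  obtain ⟨e4⟩ := nonempty_tensor_iso_right hgE eL
  exact ⟨(Scheme.Modules.restrictFunctor V.ι).mapDerivedCategoryFactors.app _ ≪≫
    DerivedCategory.Q.mapIso (resTensorCxIso V.ι P L).symm ≪≫ e3 ≪≫ e4⟩

end Groth.Agent.Lib.Helper2.Mon
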