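import Mathlib

/-!
# The lax monoidal structure of the pushforward of presheaves of modules (helper2)

For `φ : S ⟶ F.op ⋙ R` (presheaves of commutative rings), `PresheafOfModules.pushforward φ` is lax
monoidal: `μP φ M₁ M₂ : φ_* M₁ ⊗ φ_* M₂ ⟶ φ_* (M₁ ⊗ M₂)`, natural; it is an isomorphism when `φ` is
sectionwise surjective.
-/

set_option autoImplicit false
universe u
open CategoryTheory MonoidalCategory Functor.LaxMonoidal TensorProduct

namespace Groth.Agent.Lib.Helper2.Mon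

lemma addHom_ext' {A : Type*} [CommRing A] {M N B : Type*} [AddCommGroup M] [Module A M]
    [AddCommGroup N] [Module A N] [AddCommMonoid B] {f g : M ⊗[A] N →+ B}
    (h : ∀ m n, f (m ⊗ₜ n) = g (m ⊗ₜ n)) : f = g := by
  ext z
  induction z using TensorProduct.induction_on with
  | zero => simp
  | tmul m n => exact h m n
  | add a b ha hb => rw [map_add, map_add, ha, hb]

section
variable {A B : Type u} [CommRing A] [CommRing B] (f : A →+* B) (hf : Function.Surjective f)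
  (M N : ModuleCat.{u} B)

/-- the additive inverse of `μ` for a surjective ring map -/
noncomputable def μInv : (M ⊗ N : ModuleCat B) →+
    (((ModuleCat.restrictScalars f).obj M ⊗ (ModuleCat.restrictScalars f).obj N : ModuleCat A)) := by
  refine TensorProduct.liftAddHom
    { toFun := fun m =>
        { toFun := fun n => (show (ModuleCat.restrictScalars f).obj M from m) ⊗ₜ[A]
            (show (ModuleCat.restrictScalars f).obj N from n)
          map_zero' := TensorProduct.tmul_zero _ _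
          map_add' := fun n n' => by exact TensorProduct.tmul_add _ _ _ }
      map_zero' := by ext n; exact TensorProduct.zero_tmul _ _
      map_add' := fun m m' => by ext n; exact TensorProduct.add_tmul _ _ _ } ?_
  intro b m n
  obtain ⟨a, rfl⟩ := hf b
  exact TensorProduct.smul_tmul (R := A) (R' := A) a
    (show (ModuleCat.restrictScalars f).obj M from m) (show (ModuleCat.restrictScalars f).obj N from n)


lemma μInv_tmul (m : M) (n : N) : μInv f hf M N (m ⊗ₜ[B] n) =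
    (show (ModuleCat.restrictScalars f).obj M from m) ⊗ₜ[A]
      (show (ModuleCat.restrictScalars f).obj N from n) := rfl

/-- `μ` as an additive map -/
noncomputable def μAdd : (((ModuleCat.restrictScalars f).obj M ⊗ (ModuleCat.restrictScalars f).obj N : ModuleCat A)) →+
    (M ⊗ N : ModuleCat B) :=
  (μ (ModuleCat.restrictScalars f) M N).hom.toAddMonoidHom

lemma μAdd_tmul (m : M) (n : N) : μAdd f M N ((show (ModuleCat.restrictScalars f).obj M from m) ⊗ₜ[A]
      (show (ModuleCat.restrictScalars f).obj N from n)) = m ⊗ₜ[B] n :=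
  ModuleCat.restrictScalars_μ_tmul f M N m n

lemma μInv_comp_μAdd : (μInv f hf M N).comp (μAdd f M N) = AddMonoidHom.id _ := by
  apply addHom_ext'
  intro m n
  exact (congrArg (μInv f hf M N) (μAdd_tmul f M N m n)).trans (μInv_tmul f hf M N m n)

lemma μAdd_comp_μInv : (μAdd f M N).comp (μInv f hf M N) = AddMonoidHom.id _ := by
  apply addHom_ext'
  intro m n
  exact (congrArg (μAdd f M N) (μInv_tmul f hf M N m n)).trans (μAdd_tmul f M N m n)

include hf in
lemma isIso_μ_restrictScalars : IsIso (μ (ModuleCat.restrictScalars f) M N) := by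
  rw [ConcreteCategory.isIso_iff_bijective]
  refine Function.bijective_iff_has_inverse.2 ⟨fun z => μInv f hf M N z, ?_, ?_⟩
  · intro x
    exact DFunLike.congr_fun (μInv_comp_μAdd f hf M N) x
  · intro z
    exact DFunLike.congr_fun (μAdd_comp_μInv f hf M N) z

end

variable {C D : Type*} [Category C] [Category D] {F : C ⥤ D}
  {R : Dᵒᵖ ⥤ CommRingCat.{u}} {S : Cᵒᵖ ⥤ CommRingCat.{u}}
  (φ : (S ⋙ forget₂ CommRingCat RingCat) ⟶ F.op ⋙ (R ⋙ forget₂ CommRingCat RingCat))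

abbrev PMod (R : Dᵒᵖ ⥤ CommRingCat.{u}) := PresheafOfModules.{u} (R ⋙ forget₂ CommRingCat RingCat)

noncomputable abbrev pushP : PMod R ⥤ PMod S := PresheafOfModules.pushforward.{u} φ

/-- the ring map at `X`, typed between commutative rings -/
def φh (X : Cᵒᵖ) : S.obj X →+* R.obj (F.op.obj X) := (φ.app X).hom

variable (M₁ M₂ : PMod R)

noncomputable def μApp (X : Cᵒᵖ) : ((pushP φ).obj M₁ ⊗ (pushP φ).obj M₂).obj X ⟶ ((pushP φ).obj (M₁ ⊗ M₂)).obj X :=
  μ (ModuleCat.restrictScalars (φh φ X)) (M₁.obj (F.op.obj X)) (M₂.obj (F.op.obj X))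

lemma μApp_tmul (X : Cᵒᵖ) (m₁ : M₁.obj (F.op.obj X)) (m₂ : M₂.obj (F.op.obj X)) :
    (μApp φ M₁ M₂ X).hom (m₁ ⊗ₜ[S.obj X] m₂) = (m₁ ⊗ₜ[R.obj (F.op.obj X)] m₂) :=
  ModuleCat.restrictScalars_μ_tmul (φh φ X) _ _ m₁ m₂


noncomputable def μP : (pushP φ).obj M₁ ⊗ (pushP φ).obj M₂ ⟶ (pushP φ).obj (M₁ ⊗ M₂) where
  app X := μApp φ M₁ M₂ X
  naturality {X Y} f := by
    apply ModuleCat.MonoidalCategory.tensor_ext
    intro m₁ m₂
    have h1 := μApp_tmul φ M₁ M₂ X m₁ m₂
    have h2 := μApp_tmul φ M₁ M₂ Y (M₁.map (F.op.map f) m₁) (M₂.map (F.op.map f) m₂)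
    change (μApp φ M₁ M₂ Y).hom ((M₁.map (F.op.map f) m₁) ⊗ₜ (M₂.map (F.op.map f) m₂)) =
      ((M₁ ⊗ M₂).map (F.op.map f)).hom ((μApp φ M₁ M₂ X).hom (m₁ ⊗ₜ m₂))
    refine (h2.trans ?_).trans (congrArg ((M₁ ⊗ M₂).map (F.op.map f)).hom h1.symm)
    rfl


@[simp] lemma μP_app (X : Cᵒᵖ) : (μP φ M₁ M₂).app X = μApp φ M₁ M₂ X := rfl

variable {M₁ M₂} in
lemma μP_naturality {M₁' M₂' : PMod R} (a : M₁ ⟶ M₁') (b : M₂ ⟶ M₂') :
    ((pushP φ).map a ⊗ₘ (pushP φ).map b) ≫ μP φ M₁' M₂' = μP φ M₁ M₂ ≫ (pushP φ).map (a ⊗ₘ b) := by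
  ext1 X
  apply ModuleCat.MonoidalCategory.tensor_ext
  intro m₁ m₂
  have h1 := μApp_tmul φ M₁ M₂ X m₁ m₂
  have h2 := μApp_tmul φ M₁' M₂' X (a.app (F.op.obj X) m₁) (b.app (F.op.obj X) m₂)
  change (μApp φ M₁' M₂' X).hom ((a.app (F.op.obj X) m₁) ⊗ₜ (b.app (F.op.obj X) m₂)) =
      ((a ⊗ₘ b).app (F.op.obj X)).hom ((μApp φ M₁ M₂ X).hom (m₁ ⊗ₜ m₂))
  refine (h2.trans ?_).trans (congrArg ((a ⊗ₘ b).app (F.op.obj X)).hom h1.symm)
  rfl


/-- `μP` is an isomorphism when `φ` is sectionwise surjective. -/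
noncomputable def μPIso (hφ : ∀ X : Cᵒᵖ, Function.Surjective (φh φ X)) :
    (pushP φ).obj M₁ ⊗ (pushP φ).obj M₂ ≅ (pushP φ).obj (M₁ ⊗ M₂) :=
  PresheafOfModules.isoMk
    (fun X =>
      haveI : IsIso (μApp φ M₁ M₂ X) := isIso_μ_restrictScalars (φh φ X) (hφ X) _ _
      asIso (μApp φ M₁ M₂ X))
    (fun X Y f => (μP φ M₁ M₂).naturality f)

@[simp] lemma μPIso_hom (hφ : ∀ X : Cᵒᵖ, Function.Surjective (φh φ X)) :
    (μPIso φ M₁ M₂ hφ).hom = μP φ M₁ M₂ := rfl

end Groth.Agent.Lib.Helper2.Mon
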