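import Groth.Agent.Lib.Helper2.Mon.PushLax
import Groth.Agent.Lib.Helper2.Stk.Tensor
import Groth.Agent.Lib.Helper13.ModSiteUnitor
import Groth.Agent.Lib.Helper2.Stk.TensorAssoc
import Groth.Agent.Lib.Helper2.Stk.MapBifunctor
import Groth.Prelude.Def_DCoh4

/-!
# Restriction to an open subscheme commutes with the tensor product of modules (helper2)

* `shResHom j P : sh (P|_U) ≅ (sh P)|_U` (sheafification commutes with restriction).
* `resTensorIso j A B : A|_U ⊗ B|_U ≅ (A ⊗ B)|_U`, natural in both variables.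
* `resTensorCxIso j K L : K|_U ⊗ L|_U ≅ (K ⊗ L)|_U` for complexes.
-/

set_option autoImplicit false
universe u
open CategoryTheory MonoidalCategory AlgebraicGeometry Opposite TopologicalSpace
open Groth.Agent.Lib.Helper13 Groth.Agent.Lib.Helper13.ModSiteTensor Groth.Agent.Lib.Helper13.TensorLocal

namespace Groth.Agent.Lib.Helper2.Mon

/-- the structure sheaf, typed as a sheaf on the site of opens -/
abbrev OX (X : Scheme.{u}) : Sheaf (Opens.grothendieckTopology X) CommRingCat.{u} := X.sheaf

variable {U X : Scheme.{u}} (j : U ⟶ X) [IsOpenImmersion j]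

/-- the ring map `O_U ⟶ j^{-1} O_X` (an isomorphism) -/
noncomputable def αj : U.presheaf ⟶ j.opensFunctor.op ⋙ X.presheaf where
  app W := (j.appIso W.unop).inv
  naturality := by
    intro W W' f
    simp

noncomputable def φj : ((OX U).obj ⋙ forget₂ CommRingCat RingCat) ⟶
    j.opensFunctor.op ⋙ ((OX X).obj ⋙ forget₂ CommRingCat RingCat) :=
  Functor.whiskerRight (αj j) (forget₂ CommRingCat RingCat)

/-- restriction of presheaves of modules -/
noncomputable abbrev resP : ModSiteTensor.PMod (OX X) ⥤ ModSiteTensor.PMod (OX U) := pushP (φj j)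



lemma locSurj_resP {P P' : ModSiteTensor.PMod (OX X)} (f : P ⟶ P')
    (hf : LocSurj (Opens.grothendieckTopology X) f) :
    LocSurj (Opens.grothendieckTopology U) ((resP j).map f) := by
  intro W s
  obtain ⟨S, hS, h⟩ := hf (j ''ᵁ W) s
  refine ⟨Sieve.functorPullback j.opensFunctor S,
    j.opensFunctor.cover_lift (Opens.grothendieckTopology U) (Opens.grothendieckTopology X) hS, ?_⟩
  intro V g hg
  obtain ⟨t, ht⟩ := h (j.opensFunctor.map g) hg
  exact ⟨t, ht⟩

lemma locInj_resP {P P' : ModSiteTensor.PMod (OX X)} (f : P ⟶ P')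
    (hf : LocInj (Opens.grothendieckTopology X) f) :
    LocInj (Opens.grothendieckTopology U) ((resP j).map f) := by
  intro W s hs
  obtain ⟨S, hS, h⟩ := hf (j ''ᵁ W) s hs
  refine ⟨Sieve.functorPullback j.opensFunctor S,
    j.opensFunctor.cover_lift (Opens.grothendieckTopology U) (Opens.grothendieckTopology X) hS, ?_⟩
  intro V g hg
  exact h (j.opensFunctor.map g) hg


/-- restriction of modules, typed on `ModSite.Mod` -/
noncomputable def resM : ModSite.Mod (OX X) ⥤ ModSite.Mod (OX U) := Scheme.Modules.restrictFunctor j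

local notation "res" => resM

/-- the restricted unit, typed -/
noncomputable def ηr (P : ModSiteTensor.PMod (OX X)) :
    (resP j).obj P ⟶ (fgt (OX U)).obj ((res j).obj ((shf (OX X)).obj P)) :=
  (resP j).map ((shfAdj (OX X)).unit.app P)

lemma ηr_naturality {P P' : ModSiteTensor.PMod (OX X)} (f : P ⟶ P') :
    (resP j).map f ≫ ηr j P' = ηr j P ≫ (fgt (OX U)).map ((res j).map ((shf (OX X)).map f)) := by
  have h3 := (shfAdj (OX X)).unit.naturality f
  have h4 := congrArg (fun t => (resP j).map t) h3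
  simp only [Functor.map_comp] at h4
  exact h4

/-- the comparison `sh (P|_U) ⟶ (sh P)|_U` -/
noncomputable def shResHom (P : ModSiteTensor.PMod (OX X)) :
    (shf (OX U)).obj ((resP j).obj P) ⟶ (res j).obj ((shf (OX X)).obj P) :=
  ((shfAdj (OX U)).homEquiv ((resP j).obj P) ((res j).obj ((shf (OX X)).obj P))).symm (ηr j P)

lemma shResHom_eq (P : ModSiteTensor.PMod (OX X)) : shResHom j P =
    (shf (OX U)).map (ηr j P) ≫
      (shfAdj (OX U)).counit.app ((res j).obj ((shf (OX X)).obj P)) :=
  Adjunction.homEquiv_counit _ _ _ _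

instance isIso_shResHom (P : ModSiteTensor.PMod (OX X)) : IsIso (shResHom j P) := by
  rw [shResHom_eq]
  have h1 : IsIso ((shf (OX U)).map (ηr j P)) :=
    isIso_sheafification_map (𝟙 (ModSite.ringSh (OX U)).obj) _
      (locSurj_resP j _ (locSurj_unit (𝟙 (ModSite.ringSh (OX X)).obj) P))
      (locInj_resP j _ (locInj_unit (𝟙 (ModSite.ringSh (OX X)).obj) P))
  have h2 : IsIso ((shfAdj (OX U)).counit.app ((res j).obj ((shf (OX X)).obj P))) :=
    ModSiteUnitor.isIso_counit_app (OX U) _
  exact @IsIso.comp_isIso _ _ _ _ _ _ _ h1 h2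

lemma shResHom_naturality {P P' : ModSiteTensor.PMod (OX X)} (f : P ⟶ P') :
    (shf (OX U)).map ((resP j).map f) ≫ shResHom j P' =
      shResHom j P ≫ (res j).map ((shf (OX X)).map f) := by
  have h1 : (shf (OX U)).map ((resP j).map f) ≫ shResHom j P' =
      ((shfAdj (OX U)).homEquiv _ _).symm ((resP j).map f ≫ ηr j P') :=
    ((shfAdj (OX U)).homEquiv_naturality_left_symm _ _).symm
  have h2 : shResHom j P ≫ (res j).map ((shf (OX X)).map f) =
      ((shfAdj (OX U)).homEquiv _ _).symm
        (ηr j P ≫ (fgt (OX U)).map ((res j).map ((shf (OX X)).map f))) :=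
    ((shfAdj (OX U)).homEquiv_naturality_right_symm _ _).symm
  rw [h1, h2, ηr_naturality]


lemma φj_surjective (W : (Opens U)ᵒᵖ) : Function.Surjective (φh (φj j) W) := by
  intro r
  refine ⟨(j.appIso W.unop).hom.hom r, ?_⟩
  change ((j.appIso W.unop).hom ≫ (j.appIso W.unop).inv).hom r = r
  rw [Iso.hom_inv_id]
  rfl

open TAssoc

/-- `A|_U ⊗ B|_U ≅ (A ⊗ B)|_U` -/
noncomputable def resTensorIso (A B : ModSite.Mod (OX X)) :
    tt (OX U) ((res j).obj A) ((res j).obj B) ≅ (res j).obj (tt (OX X) A B) :=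
  (shf (OX U)).mapIso (μPIso (φj j) ((fgt (OX X)).obj A) ((fgt (OX X)).obj B) (φj_surjective j)) ≪≫
    asIso (shResHom j ((fgt (OX X)).obj A ⊗ (fgt (OX X)).obj B))

lemma resTensorIso_hom (A B : ModSite.Mod (OX X)) : (resTensorIso j A B).hom =
    (shf (OX U)).map (μP (φj j) ((fgt (OX X)).obj A) ((fgt (OX X)).obj B)) ≫
      shResHom j ((fgt (OX X)).obj A ⊗ (fgt (OX X)).obj B) := rfl

lemma resTensorIso_naturality_aux {A A' B B' : ModSite.Mod (OX X)} (a : A ⟶ A') (b : B ⟶ B') :
    (shf (OX U)).map ((resP j).map ((fgt (OX X)).map a) ⊗ₘ (resP j).map ((fgt (OX X)).map b)) ≫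
        ((shf (OX U)).map (μP (φj j) ((fgt (OX X)).obj A') ((fgt (OX X)).obj B')) ≫
          shResHom j ((fgt (OX X)).obj A' ⊗ (fgt (OX X)).obj B')) =
      ((shf (OX U)).map (μP (φj j) ((fgt (OX X)).obj A) ((fgt (OX X)).obj B)) ≫
          shResHom j ((fgt (OX X)).obj A ⊗ (fgt (OX X)).obj B)) ≫
        (res j).map ((shf (OX X)).map ((fgt (OX X)).map a ⊗ₘ (fgt (OX X)).map b)) := by
  rw [Category.assoc, ← shResHom_naturality, ← Functor.map_comp_assoc, ← Functor.map_comp_assoc]
  congr 2
  exact μP_naturality (φj j) ((fgt (OX X)).map a) ((fgt (OX X)).map b)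

lemma resTensorIso_naturality {A A' B B' : ModSite.Mod (OX X)} (a : A ⟶ A') (b : B ⟶ B') :
    (shf (OX U)).map ((fgt (OX U)).map ((res j).map a) ⊗ₘ (fgt (OX U)).map ((res j).map b)) ≫
        (resTensorIso j A' B').hom =
      (resTensorIso j A B).hom ≫
        (res j).map ((shf (OX X)).map ((fgt (OX X)).map a ⊗ₘ (fgt (OX X)).map b)) :=
  resTensorIso_naturality_aux j a b


lemma resTensorIso_naturality_left {A A' : ModSite.Mod (OX X)} (a : A ⟶ A') (B : ModSite.Mod (OX X)) :
    ttL (OX U) ((res j).map a) ((res j).obj B) ≫ (resTensorIso j A' B).hom =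
      (resTensorIso j A B).hom ≫ (res j).map (ttL (OX X) a B) := by
  have h := resTensorIso_naturality j (A := A) (A' := A') (B := B) (B' := B) a (𝟙 B)
  rw [CategoryTheory.Functor.map_id, CategoryTheory.Functor.map_id, CategoryTheory.Functor.map_id,
    MonoidalCategory.tensorHom_id, MonoidalCategory.tensorHom_id] at h
  exact h

lemma resTensorIso_naturality_right (A : ModSite.Mod (OX X)) {B B' : ModSite.Mod (OX X)} (b : B ⟶ B') :
    ttR (OX U) ((res j).obj A) ((res j).map b) ≫ (resTensorIso j A B').hom =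
      (resTensorIso j A B).hom ≫ (res j).map (ttR (OX X) A b) := by
  have h := resTensorIso_naturality j (A := A) (A' := A) (B := B) (B' := B') (𝟙 A) b
  rw [CategoryTheory.Functor.map_id, CategoryTheory.Functor.map_id, CategoryTheory.Functor.map_id,
    MonoidalCategory.id_tensorHom, MonoidalCategory.id_tensorHom] at h
  exact h

/-! ### `DCoh`-typed versions -/

/-- `A|_U ⊗ B|_U ≅ (A ⊗ B)|_U`, typed on `DCoh.tensorBi`. -/
noncomputable def resTensorIso' (A B : X.Modules) :
    ((DCoh.tensorBi (X := U)).obj ((Scheme.Modules.restrictFunctor j).obj A)).obj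
        ((Scheme.Modules.restrictFunctor j).obj B) ≅
      (Scheme.Modules.restrictFunctor j).obj (((DCoh.tensorBi (X := X)).obj A).obj B) :=
  resTensorIso j A B

lemma resTensorIso'_nat₁ {A A' : X.Modules} (a : A ⟶ A') (B : X.Modules) :
    ((DCoh.tensorBi (X := U)).map ((Scheme.Modules.restrictFunctor j).map a)).app
        ((Scheme.Modules.restrictFunctor j).obj B) ≫ (resTensorIso' j A' B).hom =
      (resTensorIso' j A B).hom ≫
        (Scheme.Modules.restrictFunctor j).map (((DCoh.tensorBi (X := X)).map a).app B) := by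
  exact resTensorIso_naturality_left j a B

lemma resTensorIso'_nat₂ (A : X.Modules) {B B' : X.Modules} (b : B ⟶ B') :
    ((DCoh.tensorBi (X := U)).obj ((Scheme.Modules.restrictFunctor j).obj A)).map
        ((Scheme.Modules.restrictFunctor j).map b) ≫ (resTensorIso' j A B').hom =
      (resTensorIso' j A B).hom ≫
        (Scheme.Modules.restrictFunctor j).map (((DCoh.tensorBi (X := X)).obj A).map b) := by
  exact resTensorIso_naturality_right j A b

/-- `K|_U ⊗ L|_U ≅ (K ⊗ L)|_U` for complexes of modules. -/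
noncomputable def resTensorCxIso (K L : CochainComplex X.Modules ℤ) :
    (DCoh.tensorCx.obj (((Scheme.Modules.restrictFunctor j).mapHomologicalComplex
        (ComplexShape.up ℤ)).obj K)).obj
      (((Scheme.Modules.restrictFunctor j).mapHomologicalComplex (ComplexShape.up ℤ)).obj L) ≅
    ((Scheme.Modules.restrictFunctor j).mapHomologicalComplex (ComplexShape.up ℤ)).obj
      ((DCoh.tensorCx.obj K).obj L) :=
  Stk.MB.mapIso (DCoh.tensorBi (X := X)) (DCoh.tensorBi (X := U))
    (Scheme.Modules.restrictFunctor j) (Scheme.Modules.restrictFunctor j)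
    (Scheme.Modules.restrictFunctor j) (ComplexShape.up ℤ) K L
    (fun A B => resTensorIso' j A B)
    (fun a B => resTensorIso'_nat₁ j a B)
    (fun A _ _ b => resTensorIso'_nat₂ j A b)

end Groth.Agent.Lib.Helper2.Mon
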